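/-
Subgroups of the special linear group containing all monomial elements: first tools.
-/
import Cfsg.Agent.Lib.Classical.LinBasic

set_option autoImplicit false
set_option linter.unusedSectionVars false

namespace Cfsg.Agent.Classical.LMonFour

open Matrix Module Cfsg.Geo
open Cfsg.Agent.Classical

variable {ι : Type} [Fintype ι] [DecidableEq ι] {F : Type*} [Field F] [Fintype F] {G : Subgroup (GL ι F)}

/-- Every column has at most one non-zero entry. -/
def IsMon (A : Matrix ι ι F) : Prop := ∀ j, ∃ p, ∀ i, i ≠ p → A i j = 0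

/-- The setting. -/
structure Data (G : Subgroup (GL ι F)) : Prop where
  sl : G ≤ specialLinear ι F
  mon : ∀ g : GL ι F, g ∈ specialLinear ι F → IsMon (g : Matrix ι ι F) → g ∈ G
  card : 4 ≤ Fintype.card ι
  field : 7 ≤ Fintype.card F

/-- Some elementary transvection lies in the group. -/
def Elem (G : Subgroup (GL ι F)) : Prop := ∃ (i j : ι) (h : i ≠ j) (c : F), c ≠ 0 ∧ transGL h c ∈ G

/-- Two scalars at two places, one elsewhere. -/
def dd (i j : ι) (x : F) : ι → F := fun p => if p = i then x else if p = j then x⁻¹ else 1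

theorem dd_left {i j : ι} {x : F} : dd i j x i = x := if_pos rfl

theorem dd_right {i j : ι} (h : i ≠ j) {x : F} : dd i j x j = x⁻¹ := by simp [dd, Ne.symm h]

theorem dd_other {i j p : ι} (h : p ≠ i) (h' : p ≠ j) {x : F} : dd i j x p = 1 := by simp [dd, h, h']

theorem dd_prod {i j : ι} (h : i ≠ j) {x : F} (hx : x ≠ 0) : ∏ p, dd i j x p = 1 := by
  rw [← Finset.prod_subset (Finset.subset_univ {i, j}) fun p _ hp => by
    simp only [Finset.mem_insert, Finset.mem_singleton, not_or] at hp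
    exact dd_other hp.1 hp.2,
    Finset.prod_pair h, dd_left, dd_right h, mul_inv_cancel₀ hx]

theorem dd_ne {i j : ι} {x : F} (hx : x ≠ 0) (p : ι) : dd i j x p ≠ 0 := by
  unfold dd; split_ifs <;> simp [hx]

theorem isMon_diagonal (a : ι → F) : IsMon (diagonal a) := fun j => ⟨j, fun _ hi => diagonal_apply_ne _ hi⟩

/-- The conjugate of a diagonal matrix. -/
theorem conj_apply (y : GL ι F) (a : ι → F) (k j : ι) :
    ((y : Matrix ι ι F) * diagonal a * ((y⁻¹ : GL ι F) : Matrix ι ι F)) k j =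
      (if k = j then 1 else 0) + ∑ i, (a i - 1) * ((y : Matrix ι ι F) k i * ((y⁻¹ : GL ι F) : Matrix ι ι F) i j) := by
  have h1 : ∑ i, (y : Matrix ι ι F) k i * ((y⁻¹ : GL ι F) : Matrix ι ι F) i j = if k = j then 1 else 0 := by
    rw [← Matrix.mul_apply, ← Units.val_mul, mul_inv_cancel, Units.val_one, Matrix.one_apply]
  rw [Matrix.mul_apply, ← h1, ← Finset.sum_add_distrib]
  refine Finset.sum_congr rfl fun i _ => ?_
  rw [Matrix.mul_diagonal]
  ring

/-- A scalar of multiplicative order at least four. -/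
theorem exists_scalar (h : 5 ≤ Fintype.card F) : ∃ x : F, x ≠ 0 ∧ x * x ≠ 1 ∧ x * x * x ≠ 1 ∧ x ≠ 1 := by
  classical
  obtain ⟨u, hu⟩ := IsCyclic.exists_ofOrder_eq_natCard (α := Fˣ)
  rw [Nat.card_eq_fintype_card, Fintype.card_units] at hu
  have key : ∀ m, 0 < m → m < 4 → (u : F) ^ m ≠ 1 := fun m h0 h4 e => by
    have h' := Nat.le_of_dvd h0 (orderOf_dvd_of_pow_eq_one (show u ^ m = 1 from Units.ext (by simpa using e)))
    omega
  refine ⟨u, u.ne_zero, fun e => key 2 (by norm_num) (by norm_num) (by rw [sq, e]), fun e => ?_,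
    fun e => key 1 (by norm_num) (by norm_num) (by rw [pow_one, e])⟩
  exact key 3 (by norm_num) (by norm_num) (by rw [← e]; ring)

/-- A place outside a small set. -/
theorem exists_out {s : Finset ι} (h : s.card < Fintype.card ι) : ∃ p, p ∉ s := by
  by_contra hcon
  push Not at hcon
  rw [Finset.eq_univ_of_forall hcon, Finset.card_univ] at h
  omega

variable (D : Data G)

include D

theorem exists_tor {a : ι → F} (ha : ∀ i, a i ≠ 0) (hp : ∏ i, a i = 1) :
    ∃ t ∈ G, (t : Matrix ι ι F) = diagonal a ∧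
      ((t⁻¹ : GL ι F) : Matrix ι ι F) = diagonal (fun i => (a i)⁻¹) := by
  refine ⟨⟨diagonal a, diagonal (fun i => (a i)⁻¹), ?_, ?_⟩, D.mon _ ?_ (isMon_diagonal a), rfl, rfl⟩
  · rw [diagonal_mul_diagonal, ← diagonal_one]; congr 1; funext i; exact mul_inv_cancel₀ (ha i)
  · rw [diagonal_mul_diagonal, ← diagonal_one]; congr 1; funext i; exact inv_mul_cancel₀ (ha i)
  · exact mem_specialLinear_iff.mpr (det_diagonal.trans hp)

theorem exists_dd {i j : ι} (h : i ≠ j) {x : F} (hx : x ≠ 0) :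
    ∃ t ∈ G, (t : Matrix ι ι F) = diagonal (dd i j x) ∧
      ((t⁻¹ : GL ι F) : Matrix ι ι F) = diagonal (fun p => (dd i j x p)⁻¹) :=
  exists_tor D (dd_ne hx) (dd_prod h hx)

omit D

/-- Transvections with one centre. -/
def Tr (G : Subgroup (GL ι F)) (l : ι) (φ : ι → F) : Prop :=
  ∃ g ∈ G, ∀ v, (g : Matrix ι ι F) *ᵥ v = v + Pi.single l (φ ⬝ᵥ v)

include D

/-- Torus conjugates of transvections with one centre. -/
theorem tr_step {l : ι} {φ : ι → F} (hl : φ l = 0) (h : Tr G l φ) {a : ι → F} (ha : ∀ i, a i ≠ 0)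
    (hp : ∏ i, a i = 1) : Tr G l fun p => (a l * (a p)⁻¹ - 1) * φ p := by
  obtain ⟨g, hg, hgv⟩ := h
  obtain ⟨t, ht, htv, htv'⟩ := exists_tor D ha hp
  refine ⟨t * g * t⁻¹ * g⁻¹, mul_mem (mul_mem (mul_mem ht hg) (inv_mem ht)) (inv_mem hg), fun v => ?_⟩
  obtain ⟨w, rfl⟩ : ∃ w, v = (g : Matrix ι ι F) *ᵥ w := ⟨_, (gl_mulVec_inv_cancel g v).symm⟩
  rw [gl_mul_mulVec, gl_inv_mulVec_cancel, gl_mul_mulVec, gl_mul_mulVec, htv, htv', hgv, hgv]
  funext i
  have e1 : (φ ⬝ᵥ fun p => (a p)⁻¹ * w p) = ∑ p, φ p * ((a p)⁻¹ * w p) := rfl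
  have e0 : diagonal (fun i => (a i)⁻¹) *ᵥ w = fun p => (a p)⁻¹ * w p := funext fun p => mulVec_diagonal _ _ _
  rw [e0, mulVec_diagonal]
  simp only [Pi.add_apply]
  by_cases hil : i = l
  · subst hil
    simp only [Pi.single_eq_same]
    have e2 : ((fun p => (a i * (a p)⁻¹ - 1) * φ p) ⬝ᵥ Pi.single i (φ ⬝ᵥ w)) = 0 := by
      rw [dotProduct_single, hl, mul_zero, zero_mul]
    rw [dotProduct_add, e2, add_zero, e1, mul_add, mul_inv_cancel_left₀ (ha i), Finset.mul_sum]
    simp only [dotProduct, add_assoc]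
    rw [← Finset.sum_add_distrib]
    congr 1
    exact Finset.sum_congr rfl fun p _ => by ring
  · simp only [Pi.single_eq_of_ne hil]
    rw [add_zero, add_zero, mul_inv_cancel_left₀ (ha i), add_zero]

/-- A transvection with a coordinate centre gives an elementary one. -/
theorem elem_of_tr {l : ι} {φ : ι → F} (hl : φ l = 0) (h0 : φ ≠ 0) (h : Tr G l φ) : Elem G := by
  classical
  obtain ⟨r, hr⟩ : ∃ r, φ r ≠ 0 := Function.ne_iff.mp h0
  have hrl : r ≠ l := fun e => hr (e ▸ hl)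
  have hcard := D.card
  obtain ⟨η, hη0, -, -, hη1⟩ := exists_scalar (F := F) (by have := D.field; omega)
  have hη' : η⁻¹ - 1 ≠ 0 := sub_ne_zero.mpr (inv_ne_one.mpr hη1)
  obtain ⟨p, hp⟩ := exists_out (s := {l, r}) (by have := Finset.card_le_two (a := l) (b := r); omega)
  obtain ⟨p', hp'⟩ := exists_out (s := {l, r, p}) (by have := Finset.card_le_three (a := l) (b := r) (c := p); omega)
  simp only [Finset.mem_insert, Finset.mem_singleton, not_or] at hp hp'
  have h1 := tr_step D hl h (dd_ne (i := r) (j := p) hη0) (dd_prod (Ne.symm hp.2) hη0)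
  have h2 := tr_step D (by simp [hl]) h1 (dd_ne (i := r) (j := p') hη0) (dd_prod (Ne.symm hp'.2.1) hη0)
  obtain ⟨g, hg, hgv⟩ := h2
  refine ⟨l, r, hrl.symm, (η⁻¹ - 1) * ((η⁻¹ - 1) * φ r), mul_ne_zero hη' (mul_ne_zero hη' hr), ?_⟩
  have e : g = transGL hrl.symm ((η⁻¹ - 1) * ((η⁻¹ - 1) * φ r)) := gl_ext_mulVec fun v => by
    rw [hgv, transGL_mulVec]
    congr 2
    rw [dotProduct, Finset.sum_eq_single r]
    · simp only [dd_left, dd_other (Ne.symm hrl) (Ne.symm hp.1), dd_other (Ne.symm hrl) (Ne.symm hp'.1), one_mul]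
    · intro i _ hi
      rw [dd_other (Ne.symm hrl) (Ne.symm hp.1), dd_other (Ne.symm hrl) (Ne.symm hp'.1)]
      by_cases h1 : i = p
      · rw [dd_other hi (h1 ▸ Ne.symm hp'.2.2), inv_one, mul_one, sub_self, zero_mul, zero_mul]
      · rw [dd_other hi h1, inv_one, mul_one, sub_self, zero_mul, mul_zero, zero_mul]
    · exact fun h => absurd (Finset.mem_univ r) h
  exact e ▸ hg

omit D

/-- Fixing a coordinate line. -/
def Fl (l : ι) (g : GL ι F) : Prop := ∀ i, i ≠ l → (g : Matrix ι ι F) i l = 0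

theorem fl_col {l : ι} {g : GL ι F} (h : Fl l g) :
    (g : Matrix ι ι F) *ᵥ Pi.single l 1 = Pi.single l ((g : Matrix ι ι F) l l) := by
  funext i
  rw [mulVec_single_one, col_apply]
  by_cases hi : i = l
  · rw [hi, Pi.single_eq_same]
  · rw [Pi.single_eq_of_ne hi, h i hi]

theorem fl_inv {l : ι} {g : GL ι F} (h : Fl l g) : Fl l g⁻¹ ∧
    (g : Matrix ι ι F) l l * ((g⁻¹ : GL ι F) : Matrix ι ι F) l l = 1 := by
  have e := congrArg (fun v => ((g⁻¹ : GL ι F) : Matrix ι ι F) *ᵥ v) (fl_col h)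
  simp only [gl_inv_mulVec_cancel] at e
  rw [show (Pi.single l ((g : Matrix ι ι F) l l) : ι → F) = (g : Matrix ι ι F) l l • Pi.single l 1 by
    rw [← Pi.single_smul, smul_eq_mul, mul_one], mulVec_smul, mulVec_single_one] at e
  have hll := congrFun e l
  simp only [Pi.single_eq_same, Pi.smul_apply, col_apply, smul_eq_mul] at hll
  refine ⟨fun i hi => ?_, hll.symm⟩
  have := congrFun e i
  simp only [Pi.single_eq_of_ne hi, Pi.smul_apply, col_apply, smul_eq_mul] at this
  rcases mul_eq_zero.mp this.symm with h' | h'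
  · rw [h', zero_mul] at hll; exact absurd hll one_ne_zero
  · exact h'

theorem fl_mul {l : ι} {g h : GL ι F} (hg : Fl l g) (hh : Fl l h) : Fl l (g * h) ∧
    ((g * h : GL ι F) : Matrix ι ι F) l l = (g : Matrix ι ι F) l l * (h : Matrix ι ι F) l l := by
  have key : ∀ i, ((g * h : GL ι F) : Matrix ι ι F) i l = (g : Matrix ι ι F) i l * (h : Matrix ι ι F) l l := fun i => by
    rw [Units.val_mul, mul_apply, Finset.sum_eq_single l (fun j _ hj => by rw [hh j hj, mul_zero])
      (fun h => absurd (Finset.mem_univ l) h)]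
  exact ⟨fun i hi => by rw [key, hg i hi, zero_mul], key l⟩

theorem fl_diag {l : ι} {t : GL ι F} {a : ι → F} (ht : (t : Matrix ι ι F) = diagonal a) : Fl l t :=
  fun i hi => by rw [ht, diagonal_apply_ne _ hi]

/-- Modulo the line: a map adding multiples of a column. -/
def Col (l r : ι) (u : ι → F) (g : GL ι F) : Prop :=
  ∀ v : ι → F, ∀ p, p ≠ l → ((g : Matrix ι ι F) *ᵥ v) p = v p + u p * v r

theorem col_inv {l r : ι} (hr : r ≠ l) {u : ι → F} (hu : u r = 0) {g : GL ι F} (h : Col l r u g) :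
    Col l r (-u) g⁻¹ := fun v p hp => by
  have h1 := h (((g⁻¹ : GL ι F) : Matrix ι ι F) *ᵥ v) p hp
  have h2 := h (((g⁻¹ : GL ι F) : Matrix ι ι F) *ᵥ v) r hr
  rw [gl_mulVec_inv_cancel] at h1 h2
  rw [hu, zero_mul, add_zero] at h2
  rw [← h2] at h1
  rw [Pi.neg_apply]
  linear_combination -h1

include D

/-- An element adding one entry gives an elementary transvection. -/
theorem elem_of_col {l r k : ι} (hr : r ≠ l) (hk : k ≠ l) (hkr : k ≠ r) {c : F} (hc : c ≠ 0) {w : GL ι F}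
    (hw : w ∈ G) (hfl : Fl l w) (hll : (w : Matrix ι ι F) l l = 1) (hcol : Col l r (Pi.single k c) w) : Elem G := by
  classical
  have hcard := D.card
  obtain ⟨ρ, hρ⟩ : ∃ ρ : ι → F, ρ = fun p => if p = l then 0 else (w : Matrix ι ι F) l p := ⟨_, rfl⟩
  have hρl : ρ l = 0 := by rw [hρ]; simp
  have hwv : ∀ v, (w : Matrix ι ι F) *ᵥ v = v + Pi.single k (c * v r) + Pi.single l (ρ ⬝ᵥ v) := fun v => by
    funext p
    by_cases hp : p = l
    · subst hp
      simp only [Pi.add_apply, Pi.single_eq_same, Pi.single_eq_of_ne (Ne.symm hk), add_zero]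
      rw [mulVec, dotProduct, dotProduct, ← Finset.add_sum_erase _ _ (Finset.mem_univ p),
        ← Finset.add_sum_erase (Finset.univ) (fun i => ρ i * v i) (Finset.mem_univ p), hll, hρl, one_mul, zero_mul,
        zero_add]
      congr 1
      exact Finset.sum_congr rfl fun i hi => by simp [hρ, Finset.ne_of_mem_erase hi]
    · rw [hcol v p hp]
      by_cases hpk : p = k
      · subst hpk; simp [hp]
      · simp [hp, hpk]
  -- commutators with the torus are transvections
  have step : ∀ a : ι → F, (∀ i, a i ≠ 0) → ∏ i, a i = 1 → a k = a r →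
      Tr G l fun p => (a l * (a p)⁻¹ - 1) * ρ p - if p = r then (a l * (a k)⁻¹ - 1) * ρ k * c else 0 := by
    intro a ha hp hkr'
    obtain ⟨t, ht, htv, htv'⟩ := exists_tor D ha hp
    refine ⟨t * w * t⁻¹ * w⁻¹, mul_mem (mul_mem (mul_mem ht hw) (inv_mem ht)) (inv_mem hw), fun v => ?_⟩
    obtain ⟨x, rfl⟩ : ∃ x, v = (w : Matrix ι ι F) *ᵥ x := ⟨_, (gl_mulVec_inv_cancel w v).symm⟩
    rw [gl_mul_mulVec, gl_inv_mulVec_cancel, gl_mul_mulVec, gl_mul_mulVec, htv, htv', hwv, hwv]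
    obtain ⟨y, hy⟩ : ∃ y, y = diagonal (fun i => (a i)⁻¹) *ᵥ x := ⟨_, rfl⟩
    have hyp : ∀ p, y p = (a p)⁻¹ * x p := fun p => by rw [hy, mulVec_diagonal]
    rw [← hy]
    funext p
    rw [mulVec_diagonal]
    simp only [Pi.add_apply]
    by_cases hpl : p = l
    · subst hpl
      simp only [Pi.single_eq_same, Pi.single_eq_of_ne (Ne.symm hk), add_zero]
      rw [mul_add, hyp, mul_inv_cancel_left₀ (ha p), add_assoc]
      congr 1
      simp only [dotProduct, hyp, Pi.add_apply, sub_mul, Finset.sum_sub_distrib, mul_add, ite_mul, zero_mul,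
        Finset.sum_ite_eq', Finset.mem_univ, if_true, Finset.sum_add_distrib, Finset.mul_sum, Pi.single_apply, mul_ite,
        mul_zero, hρl, Ne.symm hr, if_false, hkr, hkr.symm]
      ring_nf
      simp only [Finset.sum_const_zero, sub_zero]
      exact Finset.sum_congr rfl fun q _ => by ring
    · simp only [Pi.single_eq_of_ne hpl, add_zero]
      by_cases hpk : p = k
      · subst hpk
        simp only [Pi.single_eq_same, mul_add, hyp, mul_inv_cancel_left₀ (ha p), hkr']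
        linear_combination (c * x r + x p) * mul_inv_cancel₀ (ha r)
      · simp only [Pi.single_eq_of_ne hpk, add_zero, hyp, mul_inv_cancel_left₀ (ha p)]
  obtain ⟨η, hη0, hη2, hη3, hη1⟩ := exists_scalar (F := F) (by have := D.field; omega)
  by_cases h0 : ∃ p, p ≠ k ∧ p ≠ r ∧ ρ p ≠ 0
  · obtain ⟨p, hpk, hpr, hp⟩ := h0
    have hpl : p ≠ l := fun e => hp (e ▸ hρl)
    refine elem_of_tr D ?_ ?_ (step _ (dd_ne (i := p) (j := l) hη0) (dd_prod hpl hη0) ?_)
    · simp [hρl, hr.symm]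
    · refine fun e => hp ((mul_eq_zero.mp ?_).resolve_left (sub_ne_zero.mpr (inv_ne_one.mpr hη2)))
      have := congrFun e p
      simpa [dd_left, dd_right hpl, hpr] using this
    · rw [dd_other (Ne.symm hpk) hk, dd_other (Ne.symm hpr) hr]
  push Not at h0
  by_cases hρ0 : ρ = 0
  · refine ⟨k, r, hkr, c, hc, ?_⟩
    have e : w = transGL hkr c := gl_ext_mulVec fun v => by
      rw [hwv, transGL_mulVec, hρ0, zero_dotProduct, Pi.single_zero, add_zero]
    exact e ▸ hw
  obtain ⟨a, ha⟩ : ∃ a : ι → F, a = fun p => if p = k then η else if p = r then η else if p = l then (η * η)⁻¹ else 1 :=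
    ⟨_, rfl⟩
  have hak : a k = η := by simp [ha]
  have har : a r = η := by simp [ha]
  have hal : a l = (η * η)⁻¹ := by simp [ha, Ne.symm hk, Ne.symm hr]
  have hne : a l * η⁻¹ - 1 ≠ 0 := by
    rw [hal, sub_ne_zero, ← mul_inv]
    exact inv_ne_one.mpr hη3
  refine elem_of_tr D ?_ ?_ (step a (fun i => ?_) ?_ (by rw [hak, har]))
  · simp [hρl, hr.symm]
  · intro e
    have e1 := congrFun e k
    have e2 := congrFun e r
    simp only [hkr, if_false, sub_zero, hak, if_true, har, Pi.zero_apply] at e1 e2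
    have e1' : ρ k = 0 := (mul_eq_zero.mp e1).resolve_left hne
    rw [e1', mul_zero, zero_mul, sub_zero] at e2
    refine hρ0 (funext fun p => ?_)
    by_cases hpk : p = k
    · rw [hpk, e1']; rfl
    by_cases hpr : p = r
    · rw [hpr, (mul_eq_zero.mp e2).resolve_left hne]; rfl
    exact h0 p hpk hpr
  · simp only [ha]
    split_ifs <;> simp [hη0]
  · rw [← Finset.prod_subset (Finset.subset_univ ({k, r, l} : Finset ι)) fun p _ hp => by
      simp only [Finset.mem_insert, Finset.mem_singleton, not_or] at hp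
      simp [ha, hp.1, hp.2.1, hp.2.2],
      Finset.prod_insert (by simp [hkr, hk]), Finset.prod_insert (by simp [hr]), Finset.prod_singleton, hak, har,
      hal, ← mul_assoc, mul_inv_cancel₀ (mul_ne_zero hη0 hη0)]

/-- The conjugate of a torus element by an element fixing the line. -/
theorem exists_x {l i : ι} {y : GL ι F} (hy : y ∈ G) (hfl : Fl l y) (hi : i ≠ l) {a : F} (ha : a ≠ 0) :
    ∃ x ∈ G, Fl l x ∧
      (∀ k j, k ≠ l → (x : Matrix ι ι F) k j =
        (if k = j then 1 else 0) + (a - 1) * ((y : Matrix ι ι F) k i * ((y⁻¹ : GL ι F) : Matrix ι ι F) i j)) ∧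
      ∀ k j, k ≠ l → ((x⁻¹ : GL ι F) : Matrix ι ι F) k j =
        (if k = j then 1 else 0) + (a⁻¹ - 1) * ((y : Matrix ι ι F) k i * ((y⁻¹ : GL ι F) : Matrix ι ι F) i j) := by
  obtain ⟨t, ht, htm, htm'⟩ := exists_dd D hi ha
  refine ⟨y * t * y⁻¹, mul_mem (mul_mem hy ht) (inv_mem hy),
    (fl_mul (fl_mul hfl (fl_diag htm)).1 (fl_inv hfl).1).1, fun k j hk => ?_, fun k j hk => ?_⟩
  · rw [Units.val_mul, Units.val_mul, htm, conj_apply]
    congr 1
    rw [Finset.sum_eq_single i (fun p _ hp => ?_) (fun h => absurd (Finset.mem_univ i) h), dd_left]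
    by_cases hpl : p = l
    · rw [hpl, hfl k hk, zero_mul, mul_zero]
    · rw [dd_other hp hpl, sub_self, zero_mul]
  · rw [_root_.mul_inv_rev, _root_.mul_inv_rev, inv_inv, ← mul_assoc, Units.val_mul, Units.val_mul, htm', conj_apply]
    congr 1
    rw [Finset.sum_eq_single i (fun p _ hp => ?_) (fun h => absurd (Finset.mem_univ i) h), dd_left]
    by_cases hpl : p = l
    · rw [hpl, hfl k hk, zero_mul, mul_zero]
    · rw [dd_other hp hpl, inv_one, sub_self, zero_mul]

/-- Different zero patterns of an element and its inverse give a transvection. -/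
theorem elem_of_pattern {l i r : ι} {y : GL ι F} (hy : y ∈ G) (hfl : Fl l y) (hi : i ≠ l) (hr : r ≠ l)
    (h0 : (y : Matrix ι ι F) r i = 0) (h1 : ((y⁻¹ : GL ι F) : Matrix ι ι F) i r ≠ 0) : Elem G := by
  classical
  obtain ⟨η, hη0, -, -, hη1⟩ := exists_scalar (F := F) (by have := D.field; omega)
  obtain ⟨x, hx, hxl, hxe, hxe'⟩ := exists_x D hy hfl hi hη0
  obtain ⟨u, hu⟩ : ∃ u : ι → F, u = fun k => (y : Matrix ι ι F) k i := ⟨_, rfl⟩
  obtain ⟨Y, hY⟩ : ∃ Y : (ι → F) → F, Y = fun v => (((y⁻¹ : GL ι F) : Matrix ι ι F) *ᵥ v) i := ⟨_, rfl⟩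
  have hxv : ∀ v k, k ≠ l → ((x : Matrix ι ι F) *ᵥ v) k = v k + (η - 1) * (u k * Y v) := fun v k hk => by
    rw [hY, hu, mulVec, dotProduct, Finset.sum_congr rfl fun j _ => by rw [hxe k j hk]]
    simp only [add_mul, ite_mul, one_mul, zero_mul, Finset.sum_add_distrib, Finset.sum_ite_eq, Finset.mem_univ, if_true,
      mulVec, dotProduct, Finset.mul_sum, mul_assoc]
  have hxv' : ∀ v k, k ≠ l → (((x⁻¹ : GL ι F) : Matrix ι ι F) *ᵥ v) k = v k + (η⁻¹ - 1) * (u k * Y v) := fun v k hk => by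
    rw [hY, hu, mulVec, dotProduct, Finset.sum_congr rfl fun j _ => by rw [hxe' k j hk]]
    simp only [add_mul, ite_mul, one_mul, zero_mul, Finset.sum_add_distrib, Finset.sum_ite_eq, Finset.mem_univ, if_true,
      mulVec, dotProduct, Finset.mul_sum, mul_assoc]
  have hil : ((y⁻¹ : GL ι F) : Matrix ι ι F) i l = 0 := (fl_inv hfl).1 i hi
  have hYl : ∀ v w : ι → F, (∀ k, k ≠ l → v k = w k) → Y v = Y w := fun v w h => by
    rw [hY]
    refine Finset.sum_congr rfl fun k _ => ?_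
    by_cases hk : k = l
    · simp only [hk, hil, zero_mul]
    · rw [h k hk]
  obtain ⟨t, ht, htm, htm'⟩ := exists_dd D hr hη0
  obtain ⟨C, hC⟩ : ∃ C, C = (η - 1) * ((η⁻¹ - 1) * ((y⁻¹ : GL ι F) : Matrix ι ι F) i r) := ⟨_, rfl⟩
  have hC0 : C ≠ 0 := hC ▸ mul_ne_zero (sub_ne_zero.mpr hη1) (mul_ne_zero (sub_ne_zero.mpr (inv_ne_one.mpr hη1)) h1)
  obtain ⟨z, hz⟩ : ∃ z, z = t * x * t⁻¹ * x⁻¹ := ⟨_, rfl⟩
  have hzG : z ∈ G := hz ▸ mul_mem (mul_mem (mul_mem ht hx) (inv_mem ht)) (inv_mem hx)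
  have hzl : Fl l z ∧ (z : Matrix ι ι F) l l = 1 := by
    obtain ⟨a1, a2⟩ := fl_mul (fl_diag (l := l) htm) hxl
    obtain ⟨b1, b2⟩ := fl_mul a1 (fl_diag (l := l) htm')
    obtain ⟨c1, c2⟩ := fl_mul b1 (fl_inv hxl).1
    rw [hz]
    refine ⟨c1, ?_⟩
    rw [c2, b2, a2, htm, htm', diagonal_apply_eq, diagonal_apply_eq,
      show dd r l η l * (x : Matrix ι ι F) l l * (dd r l η l)⁻¹ * ((x⁻¹ : GL ι F) : Matrix ι ι F) l l =
        (dd r l η l * (dd r l η l)⁻¹) * ((x : Matrix ι ι F) l l * ((x⁻¹ : GL ι F) : Matrix ι ι F) l l) by ring,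
      mul_inv_cancel₀ (dd_ne hη0 l), one_mul, (fl_inv hxl).2]
  have hzcol : Col l r (C • u) z := by
    intro v p hp
    obtain ⟨w, rfl⟩ : ∃ w, v = (x : Matrix ι ι F) *ᵥ w := ⟨_, (gl_mulVec_inv_cancel x v).symm⟩
    rw [hz, gl_mul_mulVec, gl_inv_mulVec_cancel, gl_mul_mulVec, gl_mul_mulVec, htm, htm', mulVec_diagonal, hxv _ p hp,
      mulVec_diagonal, hxv _ p hp, hxv w r hr]
    have hur : u r = 0 := by rw [hu]; exact h0
    have hYt : Y (diagonal (fun p => (dd r l η p)⁻¹) *ᵥ w) = Y w + (η⁻¹ - 1) *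
        (((y⁻¹ : GL ι F) : Matrix ι ι F) i r * w r) := by
      rw [hYl _ (w + Pi.single r ((η⁻¹ - 1) * w r)) fun k hk => ?_, hY]
      · dsimp only
        rw [mulVec_add, Pi.add_apply, mulVec_single, Pi.smul_apply, op_smul_eq_mul, col_apply]
        ring
      · rw [mulVec_diagonal]
        by_cases hkr : k = r
        · rw [hkr, dd_left, Pi.add_apply, Pi.single_eq_same]; ring
        · rw [dd_other hkr hk, Pi.add_apply, Pi.single_eq_of_ne hkr, inv_one, one_mul, add_zero]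
    rw [hYt, Pi.smul_apply, smul_eq_mul, hC]
    by_cases hpr : p = r
    · subst hpr
      rw [hur, dd_left]
      field_simp
      ring
    · rw [dd_other hpr hp, hur]
      ring
  -- isolate one entry
  obtain ⟨k, hk, huk⟩ : ∃ k, k ≠ l ∧ u k ≠ 0 := by
    by_contra hcon
    push Not at hcon
    have h2 : (y : Matrix ι ι F) *ᵥ Pi.single i 1 =
        (y : Matrix ι ι F) *ᵥ (((y : Matrix ι ι F) l i * ((y : Matrix ι ι F) l l)⁻¹) • Pi.single l 1) := by
      rw [mulVec_smul, fl_col hfl, mulVec_single_one]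
      funext p
      by_cases hp : p = l
      · rw [hp, col_apply, Pi.smul_apply, Pi.single_eq_same, smul_eq_mul, mul_assoc, inv_mul_cancel₀
          (left_ne_zero_of_mul_eq_one (fl_inv hfl).2), mul_one]
      · rw [col_apply, Pi.smul_apply, Pi.single_eq_of_ne hp, smul_zero]
        have := hcon p hp
        rwa [hu] at this
    have h3 := congrFun (gl_mulVec_injective y h2) i
    simp [hi] at h3
  have hkr : k ≠ r := fun e => huk (by rw [e, hu]; exact h0)
  obtain ⟨s, hs, hsm, hsm'⟩ := exists_dd D hk hη0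
  obtain ⟨a1, a2⟩ := fl_mul (fl_diag (l := l) hsm) hzl.1
  obtain ⟨b1, b2⟩ := fl_mul a1 (fl_diag (l := l) hsm')
  obtain ⟨c1, c2⟩ := fl_mul b1 (fl_inv hzl.1).1
  refine elem_of_col D hr hk hkr (c := (η - 1) * (C * u k)) (mul_ne_zero (sub_ne_zero.mpr hη1) (mul_ne_zero hC0 huk))
    (w := s * z * s⁻¹ * z⁻¹) (mul_mem (mul_mem (mul_mem hs hzG) (inv_mem hs)) (inv_mem hzG)) c1 ?_ fun v p hp => ?_
  · have h5 : (z : Matrix ι ι F) l l * ((z⁻¹ : GL ι F) : Matrix ι ι F) l l = 1 := (fl_inv hzl.1).2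
    rw [c2, b2, a2, hsm, hsm', diagonal_apply_eq, diagonal_apply_eq,
      show dd k l η l * (z : Matrix ι ι F) l l * (dd k l η l)⁻¹ * ((z⁻¹ : GL ι F) : Matrix ι ι F) l l =
        (dd k l η l * (dd k l η l)⁻¹) * ((z : Matrix ι ι F) l l * ((z⁻¹ : GL ι F) : Matrix ι ι F) l l) by ring,
      mul_inv_cancel₀ (dd_ne hη0 l), one_mul, h5]
  · have hur : (C • u) r = 0 := by rw [Pi.smul_apply, hu]; simp [h0]
    have h4 := col_inv hr hur hzcol
    rw [gl_mul_mulVec, gl_mul_mulVec, gl_mul_mulVec, hsm, hsm', mulVec_diagonal, hzcol _ p hp, mulVec_diagonal,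
      mulVec_diagonal, h4 v p hp, h4 v r hr, dd_other hkr.symm hr]
    simp only [Pi.neg_apply, Pi.smul_apply, smul_eq_mul]
    have hur' : u r = 0 := by rw [hu]; exact h0
    rw [hur', mul_zero, neg_zero, zero_mul, add_zero, inv_one, one_mul]
    by_cases hpk : p = k
    · subst hpk
      rw [dd_left, Pi.single_eq_same]
      field_simp
      ring
    · rw [dd_other hpk hp, Pi.single_eq_of_ne hpk]
      ring

end Cfsg.Agent.Classical.LMonFour
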