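/-
A subgroup of the special linear group containing the monomial elements and one more is the whole group.
-/
import Cfsg.Agent.Lib.Classical.LMonFour.Fix

set_option autoImplicit false
set_option linter.unusedSectionVars false

namespace Cfsg.Agent.Classical.LMonFour

open Matrix Module Cfsg.Geo
open Cfsg.Agent.Classical

variable {ι : Type} [Fintype ι] [DecidableEq ι] {F : Type*} [Field F] [Fintype F] {G : Subgroup (GL ι F)}

theorem isMon_mul {A B : Matrix ι ι F} (hA : IsMon A) (hB : IsMon B) : IsMon (A * B) := fun j => by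
  obtain ⟨p, hp⟩ := hB j
  obtain ⟨q, hq⟩ := hA p
  refine ⟨q, fun i hi => ?_⟩
  rw [mul_apply, Finset.sum_eq_single p (fun b _ hb => by rw [hp b hb, mul_zero])
    (fun h => absurd (Finset.mem_univ p) h), hq i hi, zero_mul]

/-- The permutation of an invertible monomial matrix. -/
theorem mon_perm {g : GL ι F} (hg : IsMon (g : Matrix ι ι F)) : ∃ σ : Equiv.Perm ι, ∀ j,
    (g : Matrix ι ι F) (σ j) j ≠ 0 ∧ ∀ i, i ≠ σ j →
      (g : Matrix ι ι F) i j = 0 ∧ ((g⁻¹ : GL ι F) : Matrix ι ι F) j i = 0 := by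
  classical
  choose p hp using hg
  have hcol : ∀ j, (g : Matrix ι ι F) *ᵥ Pi.single j 1 = Pi.single (p j) ((g : Matrix ι ι F) (p j) j) := fun j => by
    funext i
    rw [mulVec_single_one, col_apply]
    by_cases hi : i = p j
    · rw [hi, Pi.single_eq_same]
    · rw [Pi.single_eq_of_ne hi, hp j i hi]
  have hne : ∀ j, (g : Matrix ι ι F) (p j) j ≠ 0 := fun j h => by
    have := hcol j
    rw [h, Pi.single_zero, ← mulVec_zero (g : Matrix ι ι F)] at this
    simpa using congrFun (gl_mulVec_injective g this) j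
  have hpinj : Function.Injective p := fun a b hab => by
    by_contra hne'
    have h1 : (g : Matrix ι ι F) *ᵥ Pi.single a 1 = (g : Matrix ι ι F) *ᵥ
        (((g : Matrix ι ι F) (p a) a / (g : Matrix ι ι F) (p b) b) • Pi.single b 1) := by
      rw [mulVec_smul, hcol, hcol, ← hab, ← Pi.single_smul, smul_eq_mul, div_mul_cancel₀]
      rw [hab]; exact hne b
    simpa [hne'] using congrFun (gl_mulVec_injective g h1) a
  refine ⟨Equiv.ofBijective p (Finite.injective_iff_bijective.mp hpinj), fun j => ⟨hne j, fun i hi => ?_⟩⟩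
  refine ⟨hp j i hi, ?_⟩
  obtain ⟨b, rfl⟩ := (Finite.injective_iff_bijective.mp hpinj).2 i
  have h2 : ((g⁻¹ : GL ι F) : Matrix ι ι F) *ᵥ Pi.single (p b) 1 = ((g : Matrix ι ι F) (p b) b)⁻¹ • Pi.single b 1 := by
    refine gl_mulVec_injective g ?_
    dsimp only
    rw [gl_mulVec_inv_cancel, mulVec_smul, hcol, ← Pi.single_smul, smul_eq_mul, inv_mul_cancel₀ (hne b)]
  have := congrFun h2 j
  rw [mulVec_single_one, col_apply] at this
  rw [this, Pi.smul_apply, Pi.single_eq_of_ne (fun e => hi (by rw [e]; rfl)), smul_zero]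

theorem isMon_inv {g : GL ι F} (hg : IsMon (g : Matrix ι ι F)) : IsMon ((g⁻¹ : GL ι F) : Matrix ι ι F) := fun i => by
  obtain ⟨σ, hσ⟩ := mon_perm hg
  exact ⟨σ.symm i, fun j hj => ((hσ j).2 i (fun e => hj (by rw [e, Equiv.symm_apply_apply]))).2⟩

theorem isMon_inv_transpose {g : GL ι F} (hg : IsMon (g : Matrix ι ι F)) :
    IsMon ((g⁻¹ : GL ι F) : Matrix ι ι F)ᵀ := fun j => by
  obtain ⟨σ, hσ⟩ := mon_perm hg
  exact ⟨σ j, fun i hi => ((hσ j).2 i hi).2⟩

/-- Inverse transpose. -/
def trInv : GL ι F →* GL ι F where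
  toFun g := ⟨((g⁻¹ : GL ι F) : Matrix ι ι F)ᵀ, (g : Matrix ι ι F)ᵀ,
    by rw [← transpose_mul, ← Units.val_mul, mul_inv_cancel, Units.val_one, transpose_one],
    by rw [← transpose_mul, ← Units.val_mul, inv_mul_cancel, Units.val_one, transpose_one]⟩
  map_one' := Units.ext (by simp)
  map_mul' g h := Units.ext (by simp [_root_.mul_inv_rev, transpose_mul])

theorem trInv_coe (g : GL ι F) : (trInv g : Matrix ι ι F) = ((g⁻¹ : GL ι F) : Matrix ι ι F)ᵀ := rfl

theorem trInv_trInv (g : GL ι F) : trInv (trInv g) = g := Units.ext (by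
  rw [trInv_coe]
  show ((g : Matrix ι ι F)ᵀ)ᵀ = _
  rw [transpose_transpose])

theorem data_comap (D : Data G) : Data (G.comap trInv) where
  card := D.card
  field := D.field
  sl g hg := by
    have h := mem_specialLinear_iff.mp (D.sl hg)
    rw [trInv_coe, det_transpose] at h
    have h2 := congrArg det (g.mul_inv)
    rw [det_mul, det_one, h, mul_one] at h2
    exact mem_specialLinear_iff.mpr h2
  mon g hg hm := D.mon _ (mem_specialLinear_iff.mpr (by
    rw [trInv_coe, det_transpose]
    have h2 := congrArg det (g.inv_mul)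
    rwa [det_mul, det_one, mem_specialLinear_iff.mp hg, mul_one] at h2)) (by
      rw [trInv_coe]; exact isMon_inv_transpose hm)

theorem elem_of_comap (h : Elem (G.comap trInv)) : Elem G := by
  obtain ⟨i, j, hij, c, hc, hmem⟩ := h
  refine ⟨j, i, hij.symm, -c, neg_ne_zero.mpr hc, ?_⟩
  have e : trInv (transGL hij c) = transGL hij.symm (-c) := Units.ext (by
    rw [trInv_coe, transGL_coe]
    have h1 : ((transGL hij c)⁻¹ : GL ι F) = transGL hij (-c) := inv_eq_of_mul_eq_one_right (gl_ext_mulVec fun v => by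
      rw [gl_mul_mulVec, transGL_mulVec, transGL_mulVec, Units.val_one, one_mulVec, Pi.add_apply,
        Pi.single_eq_of_ne hij.symm, add_zero, add_assoc, ← Pi.single_add, neg_mul, neg_add_cancel, Pi.single_zero,
        add_zero])
    rw [h1, transGL_coe, transvection, transvection, transpose_add, transpose_one, transpose_single])
  rw [← e]
  exact hmem

/-- A conjugate of a two-entry torus element that is monomial moves only two coordinates. -/
theorem mon_conj {h y : GL ι F} {k k' : ι} (hk : k ≠ k') {x : F} (hx0 : x ≠ 0) (hx2 : x * x ≠ 1)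
    (hx3 : x * x * x ≠ 1) (hy : (y : Matrix ι ι F) = (h : Matrix ι ι F) * diagonal (dd k k' x) *
      ((h⁻¹ : GL ι F) : Matrix ι ι F)) (hmon : IsMon (y : Matrix ι ι F)) :
    ∃ S : Finset ι, S.card ≤ 2 ∧ ∀ i, i ∉ S → (h : Matrix ι ι F) i k = 0 ∧ (h : Matrix ι ι F) i k' = 0 := by
  classical
  obtain ⟨σ, hσ⟩ := mon_perm hmon
  obtain ⟨c, hc⟩ : ∃ c : ι → F, c = fun p => (y : Matrix ι ι F) (σ p) p := ⟨_, rfl⟩
  have hcol : ∀ p (r : F), (y : Matrix ι ι F) *ᵥ Pi.single p r = Pi.single (σ p) (r * c p) := fun p r => by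
    funext i
    rw [mulVec_single, Pi.smul_apply, op_smul_eq_mul, col_apply]
    by_cases hi : i = σ p
    · rw [hi, Pi.single_eq_same, hc, mul_comm]
    · rw [Pi.single_eq_of_ne hi, ((hσ p).2 i hi).1, zero_mul]
  have hyw : ∀ w, (y : Matrix ι ι F) *ᵥ ((h : Matrix ι ι F) *ᵥ w) =
      (h : Matrix ι ι F) *ᵥ fun p => dd k k' x p * w p := fun w => by
    rw [hy, ← mulVec_mulVec, gl_inv_mulVec_cancel, ← mulVec_mulVec]
    congr 1
    funext p
    rw [mulVec_diagonal]
  obtain ⟨s, hs⟩ : ∃ s, s = 1 + x + x⁻¹ := ⟨_, rfl⟩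
  have hx1 : x ≠ 1 := fun e => hx2 (by rw [e, one_mul])
  have hcub : ∀ v, (y : Matrix ι ι F) *ᵥ ((y : Matrix ι ι F) *ᵥ ((y : Matrix ι ι F) *ᵥ v)) -
      s • ((y : Matrix ι ι F) *ᵥ ((y : Matrix ι ι F) *ᵥ v)) + s • ((y : Matrix ι ι F) *ᵥ v) - v = 0 := fun v => by
    obtain ⟨w, rfl⟩ : ∃ w, v = (h : Matrix ι ι F) *ᵥ w := ⟨_, (gl_mulVec_inv_cancel h v).symm⟩
    rw [hyw, hyw, hyw, ← mulVec_smul, ← mulVec_smul, ← mulVec_sub, ← mulVec_add, ← mulVec_sub,
      ← mulVec_zero (h : Matrix ι ι F)]
    congr 1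
    funext p
    simp only [Pi.sub_apply, Pi.add_apply, Pi.smul_apply, smul_eq_mul, Pi.zero_apply, dd, hs]
    split_ifs
    · field_simp; ring
    · field_simp; ring
    · ring
  have two : ∀ p, σ p ≠ p → σ (σ p) = p ∧ c (σ p) * c p = -1 ∧ (2 : F) ≠ 0 := by
    intro p hp
    have h0 := hcub (Pi.single p 1)
    simp only [hcol, one_mul] at h0
    have hq : σ (σ p) ≠ σ p := fun e => hp (σ.injective e)
    by_cases h2 : σ (σ p) = p
    swap
    · exfalso
      have e1 := congrFun h0 p
      simp only [Pi.sub_apply, Pi.add_apply, Pi.smul_apply, Pi.single_eq_of_ne (Ne.symm h2), Pi.single_eq_of_ne (Ne.symm hp),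
        smul_zero, sub_zero, add_zero, Pi.single_eq_same, Pi.zero_apply] at e1
      have h3 : σ (σ (σ p)) = p := by
        by_contra h3
        rw [Pi.single_eq_of_ne (Ne.symm h3), zero_sub, neg_eq_zero] at e1
        exact one_ne_zero e1
      have e2 := congrFun h0 (σ p)
      simp only [Pi.sub_apply, Pi.add_apply, Pi.smul_apply, h3, Pi.single_eq_of_ne hp, Pi.single_eq_of_ne (Ne.symm hq),
        smul_zero, mul_zero, sub_zero, zero_add, Pi.single_eq_same, Pi.zero_apply, smul_eq_mul] at e2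
      have hs0 : s = 0 := (mul_eq_zero.mp e2).resolve_right (by rw [hc]; exact (hσ p).1)
      apply hx3
      rw [hs] at hs0
      field_simp at hs0
      linear_combination (x - 1) * hs0
    simp only [h2] at h0
    have e1 := congrFun h0 p
    have e2 := congrFun h0 (σ p)
    simp only [Pi.sub_apply, Pi.add_apply, Pi.smul_apply, Pi.single_eq_of_ne (Ne.symm hp), Pi.single_eq_of_ne hp,
      smul_zero, sub_zero, zero_sub, add_zero, Pi.single_eq_same, Pi.zero_apply, smul_eq_mul] at e1 e2
    have hc0 : c p ≠ 0 := by rw [hc]; exact (hσ p).1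
    have hk2 : c (σ p) * c p = -s := by
      have : (c (σ p) * c p + s) * c p = 0 := by linear_combination e2
      linear_combination (mul_eq_zero.mp this).resolve_right hc0
    have hs2 : (s - 1) * (s + 1) = 0 := by linear_combination e1 + s * hk2
    have hs1 : s = 1 := by
      rcases mul_eq_zero.mp hs2 with h | h
      · exact sub_eq_zero.mp h
      · exfalso
        rw [hs] at h
        field_simp at h
        have : (x + 1) * (x + 1) = 0 := by linear_combination h
        have hm := mul_self_eq_zero.mp this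
        exact hx2 (by linear_combination (x - 1) * hm)
    refine ⟨h2, by rw [hk2, hs1], fun h2' => hx2 ?_⟩
    rw [hs] at hs1
    field_simp at hs1
    linear_combination hs1 - h2'
  obtain ⟨S, hS⟩ : ∃ S : Finset ι, S = Finset.univ.filter fun p => σ p ≠ p ∨ c p ≠ 1 := ⟨_, rfl⟩
  have hfix : ∀ i, i ∉ S → σ i = i ∧ c i = 1 := fun i hi => by
    simpa [hS, not_or] using hi
  refine ⟨S, ?_, fun i hi => ?_⟩
  · have hspan : ∀ p ∈ S, (Pi.single p 1 : ι → F) ∈
        Submodule.span F {(h : Matrix ι ι F) *ᵥ Pi.single k 1, (h : Matrix ι ι F) *ᵥ Pi.single k' 1} := by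
      have him : ∀ v, (y : Matrix ι ι F) *ᵥ v - v ∈
          Submodule.span F {(h : Matrix ι ι F) *ᵥ Pi.single k 1, (h : Matrix ι ι F) *ᵥ Pi.single k' 1} := fun v => by
        obtain ⟨w, rfl⟩ : ∃ w, v = (h : Matrix ι ι F) *ᵥ w := ⟨_, (gl_mulVec_inv_cancel h v).symm⟩
        refine Submodule.mem_span_pair.mpr ⟨(x - 1) * w k, (x⁻¹ - 1) * w k', ?_⟩
        rw [hyw, ← mulVec_sub, ← mulVec_smul, ← mulVec_smul, ← mulVec_add]
        congr 1
        funext p
        simp only [Pi.add_apply, Pi.smul_apply, Pi.sub_apply, smul_eq_mul, dd, Pi.single_apply]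
        split_ifs with h1 h2
        · exact absurd (h1.symm.trans h2) hk
        · subst h1; ring
        · rename_i h2; subst h2; ring
        · ring
      intro p hp
      simp only [hS, Finset.mem_filter, Finset.mem_univ, true_and] at hp
      by_cases hσp : σ p = p
      · have hcp : c p - 1 ≠ 0 := sub_ne_zero.mpr (hp.resolve_left (not_not.mpr hσp))
        have := him (Pi.single p 1)
        rw [hcol, hσp, one_mul, ← Pi.single_sub] at this
        have := Submodule.smul_mem _ (c p - 1)⁻¹ this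
        rwa [← Pi.single_smul, smul_eq_mul, inv_mul_cancel₀ hcp] at this
      · obtain ⟨h2, hk2, htwo⟩ := two p hσp
        have := him (Pi.single p 1 + (y : Matrix ι ι F) *ᵥ Pi.single p 1)
        rw [mulVec_add, hcol, hcol, h2, one_mul, mul_comm (c p) (c (σ p)), hk2,
          show Pi.single (σ p) (c p) + Pi.single p (-1 : F) - (Pi.single p 1 + Pi.single (σ p) (c p)) =
            (-2 : F) • Pi.single p (1 : F) by
            funext i
            simp only [Pi.sub_apply, Pi.add_apply, Pi.smul_apply, smul_eq_mul, Pi.single_apply]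
            split_ifs <;> ring] at this
        exact (Submodule.smul_mem_iff _ (neg_ne_zero.mpr htwo)).mp this
    have hli : LinearIndependent F fun p : {p // p ∈ S} => (Pi.single (p : ι) 1 : ι → F) := by
      have := (Pi.basisFun F ι).linearIndependent.comp (fun p : {p // p ∈ S} => (p : ι)) Subtype.val_injective
      simpa [Function.comp_def] using this
    have h1 := finrank_span_eq_card hli
    have h2 := Submodule.finrank_mono (Submodule.span_le.mpr (by rintro _ ⟨p, rfl⟩; exact hspan p p.2) :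
      Submodule.span F (Set.range fun p : {p // p ∈ S} => (Pi.single (p : ι) 1 : ι → F)) ≤
        Submodule.span F {(h : Matrix ι ι F) *ᵥ Pi.single k 1, (h : Matrix ι ι F) *ᵥ Pi.single k' 1})
    have h3 : finrank F (Submodule.span F {(h : Matrix ι ι F) *ᵥ Pi.single k 1, (h : Matrix ι ι F) *ᵥ Pi.single k' 1}) ≤ 2 := by
      have h4 := finrank_span_finset_le_card (R := F)
        ({(h : Matrix ι ι F) *ᵥ Pi.single k 1, (h : Matrix ι ι F) *ᵥ Pi.single k' 1} : Finset (ι → F))
      rw [Finset.coe_insert, Finset.coe_singleton] at h4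
      exact h4.trans Finset.card_le_two
    rw [h1, Fintype.card_coe] at h2
    omega
  · obtain ⟨hi1, hi2⟩ := hfix i hi
    have row : ∀ v : ι → F, ((y : Matrix ι ι F) *ᵥ v) i = v i := fun v => by
      rw [mulVec, dotProduct, Finset.sum_eq_single i (fun q _ hq => ?_) (fun h => absurd (Finset.mem_univ i) h)]
      · have : (y : Matrix ι ι F) i i = c i := by
          rw [hc]
          show _ = (y : Matrix ι ι F) (σ i) i
          rw [hi1]
        rw [this, hi2, one_mul]
      · rw [((hσ q).2 i fun e => hq (σ.injective (e.symm.trans hi1.symm))).1, zero_mul]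
    have eig : ∀ q, (dd k k' x q - 1) * (h : Matrix ι ι F) i q = 0 := fun q => by
      have e := row ((h : Matrix ι ι F) *ᵥ Pi.single q 1)
      rw [hyw, show (fun p => dd k k' x p * (Pi.single q 1 : ι → F) p) = dd k k' x q • Pi.single q 1 by
        funext p
        by_cases hp : p = q
        · subst hp; simp
        · simp [hp], mulVec_smul, mulVec_single_one, Pi.smul_apply, col_apply, smul_eq_mul] at e
      linear_combination e
    refine ⟨(mul_eq_zero.mp (eig k)).resolve_left ?_, (mul_eq_zero.mp (eig k')).resolve_left ?_⟩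
    · rw [dd_left]; exact sub_ne_zero.mpr hx1
    · rw [dd_right hk]; exact sub_ne_zero.mpr (inv_ne_one.mpr hx1)

/-- A vector off several hyperplanes with all coordinates non-zero. -/
theorem avoid (T : Finset ι) : ∀ L : List (ι → F), L.length + 2 ≤ Fintype.card F →
    (∀ c ∈ L, ∃ f ∈ T, c f ≠ 0) → ∃ z : ι → F, (∀ i, z i ≠ 0) ∧ ∀ c ∈ L, ∑ f ∈ T, c f * z f ≠ 0 := by
  classical
  intro L
  induction L with
  | nil => exact fun _ _ => ⟨fun _ => 1, fun _ => one_ne_zero, fun c hc => absurd hc List.not_mem_nil⟩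
  | cons d L ih =>
    intro hlen hne
    simp only [List.length_cons] at hlen
    obtain ⟨z, hz, hzL⟩ := ih (by omega) fun c hc => hne c (List.mem_cons_of_mem _ hc)
    by_cases hd : ∑ f ∈ T, d f * z f = 0
    swap
    · exact ⟨z, hz, fun c hc => (List.mem_cons.mp hc).elim (fun e => e ▸ hd) (hzL c)⟩
    obtain ⟨f, hf, hdf⟩ := hne d List.mem_cons_self
    let bad : Finset F := insert 0 (insert (z f) (L.map fun c => z f - (∑ p ∈ T, c p * z p) / c f).toFinset)
    have hbad : bad.card < Fintype.card F := by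
      have h1 := Finset.card_insert_le (0 : F) (insert (z f) (L.map fun c => z f - (∑ p ∈ T, c p * z p) / c f).toFinset)
      have h2 := Finset.card_insert_le (z f) (L.map fun c => z f - (∑ p ∈ T, c p * z p) / c f).toFinset
      have h3 := List.toFinset_card_le (L.map fun c => z f - (∑ p ∈ T, c p * z p) / c f)
      rw [List.length_map] at h3
      show (insert 0 _ : Finset F).card < _
      omega
    obtain ⟨v, hv⟩ : ∃ v, v ∉ bad := by
      by_contra hcon
      push Not at hcon
      rw [Finset.eq_univ_of_forall hcon, Finset.card_univ] at hbad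
      omega
    simp only [bad, Finset.mem_insert, List.mem_toFinset, List.mem_map, not_or, not_exists, not_and] at hv
    have hsum : ∀ c : ι → F, ∑ p ∈ T, c p * Function.update z f v p = (∑ p ∈ T, c p * z p) + c f * (v - z f) := fun c => by
      rw [← Finset.add_sum_erase _ _ hf, ← Finset.add_sum_erase _ (fun p => c p * z p) hf, Function.update_self,
        Finset.sum_congr rfl fun p hp => by rw [Function.update_of_ne (Finset.ne_of_mem_erase hp)]]
      ring
    refine ⟨Function.update z f v, fun i => ?_, fun c hc => ?_⟩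
    · by_cases hi : i = f
      · subst hi; rw [Function.update_self]; exact hv.1
      · rw [Function.update_of_ne hi]; exact hz i
    rw [hsum]
    rcases List.mem_cons.mp hc with rfl | hc
    · rw [hd, zero_add]; exact mul_ne_zero hdf (sub_ne_zero.mpr hv.2.1)
    · intro e
      by_cases hcf : c f = 0
      · rw [hcf, zero_mul, add_zero] at e; exact hzL c hc e
      · refine hv.2.2 c hc ?_
        field_simp
        linear_combination -e

variable (D : Data G)

include D

theorem exists_pow_four : ∃ x : F, x ≠ 0 ∧ x ^ 4 ≠ 1 := by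
  classical
  obtain ⟨u, hu⟩ := IsCyclic.exists_ofOrder_eq_natCard (α := Fˣ)
  rw [Nat.card_eq_fintype_card, Fintype.card_units] at hu
  refine ⟨u, u.ne_zero, fun e => ?_⟩
  have h' := Nat.le_of_dvd (by norm_num) (orderOf_dvd_of_pow_eq_one (show u ^ 4 = 1 from Units.ext (by simpa using e)))
  have := D.field
  omega

/-- Two zeros in a column of the inverse. -/
theorem elem_of_two_zeros {h : GL ι F} (hh : h ∈ G) (hnm : ¬ IsMon (h : Matrix ι ι F)) {k k' l : ι} (hk : k ≠ k')
    (h0 : ((h⁻¹ : GL ι F) : Matrix ι ι F) k l = 0) (h0' : ((h⁻¹ : GL ι F) : Matrix ι ι F) k' l = 0) : Elem G := by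
  classical
  have hcard := D.card
  obtain ⟨x, hx0, hx2, hx3, -⟩ := exists_scalar (F := F) (by have := D.field; omega)
  have conjFl : ∀ (h : GL ι F) (k k' l : ι), h ∈ G → k ≠ k' → ((h⁻¹ : GL ι F) : Matrix ι ι F) k l = 0 →
      ((h⁻¹ : GL ι F) : Matrix ι ι F) k' l = 0 → ¬ Elem G →
      ∃ S : Finset ι, S.card ≤ 2 ∧ ∀ i, i ∉ S → (h : Matrix ι ι F) i k = 0 ∧ (h : Matrix ι ι F) i k' = 0 := by
    intro h k k' l hh hk h0 h0' hne
    obtain ⟨t, ht, htm, -⟩ := exists_dd D hk hx0
    have hval : ((h * t * h⁻¹ : GL ι F) : Matrix ι ι F) =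
        (h : Matrix ι ι F) * diagonal (dd k k' x) * ((h⁻¹ : GL ι F) : Matrix ι ι F) := by
      rw [Units.val_mul, Units.val_mul, htm]
    have hfl : Fl l (h * t * h⁻¹) := fun i hi => by
      rw [hval, conj_apply, if_neg hi, zero_add]
      refine Finset.sum_eq_zero fun p _ => ?_
      by_cases hp : p = k
      · rw [hp, h0, mul_zero, mul_zero]
      by_cases hp' : p = k'
      · rw [hp', h0', mul_zero, mul_zero]
      rw [dd_other hp hp', sub_self, zero_mul]
    refine mon_conj hk hx0 hx2 hx3 hval ?_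
    by_contra hm
    exact hne (elem_of_fix D (mul_mem (mul_mem hh ht) (inv_mem hh)) hfl hm)
  by_contra hne
  obtain ⟨S, hS, hSz⟩ := conjFl h k k' l hh hk h0 h0' hne
  obtain ⟨h', hh'⟩ : ∃ h', h' = h⁻¹ := ⟨_, rfl⟩
  -- a column with a single entry gives an element fixing a line
  have single : ∀ r p, (∀ i, i ≠ p → (h' : Matrix ι ι F) i r = 0) → False := by
    intro r p hp
    obtain ⟨m, hm, a, ha0, happ, -⟩ := exists_mon D (Equiv.swap r p)
    have hcol : (h' : Matrix ι ι F) *ᵥ Pi.single r 1 = Pi.single p ((h' : Matrix ι ι F) p r) := by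
      funext i
      rw [mulVec_single_one, col_apply]
      by_cases hi : i = p
      · rw [hi, Pi.single_eq_same]
      · rw [Pi.single_eq_of_ne hi, hp i hi]
    refine hne (elem_of_fix D (l := p) (mul_mem hm hh) (fun i hi => ?_) fun hmm => hnm ?_)
    · obtain ⟨j, rfl⟩ := (Equiv.swap r p).surjective i
      have hj : j ≠ r := fun e => hi (by rw [e, Equiv.swap_apply_left])
      have e1 : ((h : Matrix ι ι F) *ᵥ Pi.single p 1) j = 0 := by
        have e2 := congrArg (fun v => (h : Matrix ι ι F) *ᵥ v) hcol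
        simp only [hh', gl_mulVec_inv_cancel] at e2
        rw [show (Pi.single p (((h⁻¹ : GL ι F) : Matrix ι ι F) p r) : ι → F) =
          ((h⁻¹ : GL ι F) : Matrix ι ι F) p r • Pi.single p 1 by rw [← Pi.single_smul, smul_eq_mul, mul_one],
          mulVec_smul] at e2
        have e3 := congrFun e2 j
        rw [Pi.single_eq_of_ne hj, Pi.smul_apply, smul_eq_mul] at e3
        refine (mul_eq_zero.mp e3.symm).resolve_left fun e4 => ?_
        rw [e4, zero_smul] at e2
        simpa using congrFun e2 r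
      have e4 := happ ((h : Matrix ι ι F) *ᵥ Pi.single p 1) j
      rw [e1, mul_zero, ← gl_mul_mulVec, mulVec_single_one, col_apply] at e4
      exact e4
    · have h1 := isMon_mul (isMon_inv (g := m) ?_) hmm
      · rwa [← Units.val_mul, inv_mul_cancel_left] at h1
      · intro j
        refine ⟨Equiv.swap r p j, fun i hi => ?_⟩
        obtain ⟨b, rfl⟩ := (Equiv.swap r p).surjective i
        have e := happ (Pi.single j 1) b
        rw [mulVec_single_one, col_apply, Pi.single_eq_of_ne (fun e : b = j => hi (by rw [e])), mul_zero] at e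
        exact e
  -- the conjugate of a torus element
  obtain ⟨x, hx0, hx4⟩ : ∃ x : F, x ≠ 0 ∧ x ^ 4 ≠ 1 := exists_pow_four D
  have hx2' : x * x ≠ 1 := fun e => hx4 (by rw [show x ^ 4 = x * x * (x * x) by ring, e, one_mul])
  obtain ⟨t, ht, htm, -⟩ := exists_dd D hk hx0
  have hval : ((h * t * h⁻¹ : GL ι F) : Matrix ι ι F) =
      (h : Matrix ι ι F) * diagonal (dd k k' x) * ((h⁻¹ : GL ι F) : Matrix ι ι F) := by
    rw [Units.val_mul, Units.val_mul, htm]
  have hfl : Fl l (h * t * h⁻¹) := fun i hi => by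
    rw [hval, conj_apply, if_neg hi, zero_add]
    refine Finset.sum_eq_zero fun p _ => ?_
    by_cases hp : p = k
    · rw [hp, h0, mul_zero, mul_zero]
    by_cases hp' : p = k'
    · rw [hp', h0', mul_zero, mul_zero]
    rw [dd_other hp hp', sub_self, zero_mul]
  have hmon : IsMon ((h * t * h⁻¹ : GL ι F) : Matrix ι ι F) := by
    by_contra hm
    exact hne (elem_of_fix D (mul_mem (mul_mem hh ht) (inv_mem hh)) hfl hm)
  obtain ⟨σ, hσ⟩ := mon_perm hmon
  have hout : ∀ r, r ∉ S → ∀ m, r ≠ m → ((h * t * h⁻¹ : GL ι F) : Matrix ι ι F) r m = 0 := fun r hr m hrm => by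
    rw [hval, conj_apply, if_neg hrm, zero_add]
    refine Finset.sum_eq_zero fun p _ => ?_
    by_cases hp : p = k
    · rw [hp, (hSz r hr).1, zero_mul, mul_zero]
    by_cases hp' : p = k'
    · rw [hp', (hSz r hr).2, zero_mul, mul_zero]
    rw [dd_other hp hp', sub_self, zero_mul]
  have hfix : ∀ r, r ∉ S → σ r = r := fun r hr => by
    by_contra e
    obtain ⟨m, rfl⟩ : ∃ m, σ m = r := σ.surjective r
    by_cases hm : σ m = m
    · exact e (by rw [hm, hm])
    · exact (hσ m).1 (hout _ hr m hm)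
  have hSσ : ∀ s ∈ S, σ s ∈ S := fun s hs => by
    by_contra e
    exact e (by rw [σ.injective (hfix _ e)]; exact hs)
  have hsq : ∀ s ∈ S, σ (σ s) = s := fun s hs => by
    by_cases e : σ s = s
    · rw [e, e]
    by_contra e'
    have h3 := Finset.card_le_card (s := {s, σ s, σ (σ s)}) (t := S) (by
      intro r hr
      simp only [Finset.mem_insert, Finset.mem_singleton] at hr
      rcases hr with e1 | e1 | e1 <;> rw [e1] <;> first | exact hs | exact hSσ _ hs | exact hSσ _ (hSσ _ hs))
    rw [Finset.card_insert_of_notMem (by simp [Ne.symm e, Ne.symm e']),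
      Finset.card_pair (fun h => e (σ.injective h).symm)] at h3
    omega
  have heig : ∀ s ∈ S, ∃ c : F, ∀ p, dd k k' x p ^ 2 * (h' : Matrix ι ι F) p s = c * (h' : Matrix ι ι F) p s := fun s hs => by
    obtain ⟨Y, hY⟩ : ∃ Y, Y = h * t * h⁻¹ := ⟨_, rfl⟩
    rw [← hY] at hσ
    have hcol : ∀ m, (Y : Matrix ι ι F) *ᵥ Pi.single m 1 = (Y : Matrix ι ι F) (σ m) m • Pi.single (σ m) 1 := fun m => by
      funext i
      rw [mulVec_single_one, col_apply]
      by_cases hi : i = σ m
      · rw [hi, Pi.smul_apply, Pi.single_eq_same, smul_eq_mul, mul_one]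
      · rw [((hσ m).2 i hi).1, Pi.smul_apply, Pi.single_eq_of_ne hi, smul_zero]
    refine ⟨(Y : Matrix ι ι F) (σ s) s * (Y : Matrix ι ι F) s (σ s), fun p => ?_⟩
    have hD : ∀ v, (h' : Matrix ι ι F) *ᵥ ((Y : Matrix ι ι F) *ᵥ v) =
        diagonal (dd k k' x) *ᵥ ((h' : Matrix ι ι F) *ᵥ v) := fun v => by
      rw [hY, gl_mul_mulVec, gl_mul_mulVec, hh', gl_inv_mulVec_cancel, htm]
    have e : (h' : Matrix ι ι F) *ᵥ ((Y : Matrix ι ι F) *ᵥ ((Y : Matrix ι ι F) *ᵥ Pi.single s 1)) =
        ((Y : Matrix ι ι F) (σ s) s * (Y : Matrix ι ι F) s (σ s)) • ((h' : Matrix ι ι F) *ᵥ Pi.single s 1) := by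
      rw [hcol s, mulVec_smul, hcol (σ s), hsq s hs, smul_smul, mulVec_smul]
    rw [hD, hD] at e
    have e' := congrFun e p
    simp only [mulVec_diagonal, Pi.smul_apply, mulVec_single_one, col_apply, smul_eq_mul] at e'
    rw [← e']
    ring
  have key : ∀ s ∈ S, (h' : Matrix ι ι F) k s = 0 := fun s hs => by
    by_contra hks
    obtain ⟨c, hc⟩ := heig s hs
    have h1 := mul_right_cancel₀ hks (hc k)
    rw [dd_left] at h1
    refine single s k fun p hp => by_contra fun hp0 => ?_
    have h2 := mul_right_cancel₀ hp0 (hc p)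
    rw [← h1] at h2
    by_cases hp' : p = k'
    · rw [hp', dd_right hk] at h2
      field_simp at h2
      exact hx4 (by linear_combination -h2)
    · rw [dd_other hp hp', one_pow] at h2
      exact hx2' (by linear_combination -h2)
  have e1 : (1 : F) = ∑ s, (h' : Matrix ι ι F) k s * (h : Matrix ι ι F) s k := by
    rw [← mul_apply, hh', ← Units.val_mul, inv_mul_cancel, Units.val_one, one_apply_eq]
  refine one_ne_zero (e1.trans (Finset.sum_eq_zero fun s _ => ?_))
  by_cases hs : s ∈ S
  · rw [key s hs, zero_mul]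
  · rw [(hSz s hs).1, mul_zero]

/-- Two zeros in a row. -/
theorem elem_of_row {h : GL ι F} (hh : h ∈ G) (hnm : ¬ IsMon (h : Matrix ι ι F)) {a b i : ι} (hab : a ≠ b)
    (ha : (h : Matrix ι ι F) i a = 0) (hb : (h : Matrix ι ι F) i b = 0) : Elem G := by
  have e : ∀ c, ((trInv h)⁻¹ : GL ι F).1 c i = (h : Matrix ι ι F) i c := fun c => by
    rw [← map_inv, trInv_coe, inv_inv, transpose_apply]
  refine elem_of_comap (elem_of_two_zeros (data_comap D) (h := trInv h)
    (by rw [Subgroup.mem_comap, trInv_trInv]; exact hh) (fun hm => hnm ?_) hab (l := i) ?_ ?_)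
  · have h2 := isMon_inv_transpose hm
    rw [← trInv_coe, trInv_trInv] at h2
    exact h2
  · rw [e]; exact ha
  · rw [e]; exact hb

/-- A vanishing minor of order two in dimension four. -/
theorem elem_of_minor (h4 : Fintype.card ι = 4) {g : GL ι F} (hg : g ∈ G) (hnm : ¬ IsMon (g : Matrix ι ι F))
    {j p a b : ι} (hjp : j ≠ p) (hab : a ≠ b)
    (hmin : ((g⁻¹ : GL ι F) : Matrix ι ι F) j a * ((g⁻¹ : GL ι F) : Matrix ι ι F) p b =
      ((g⁻¹ : GL ι F) : Matrix ι ι F) j b * ((g⁻¹ : GL ι F) : Matrix ι ι F) p a) : Elem G := by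
  classical
  by_contra hne
  obtain ⟨X, hX⟩ : ∃ X, X = ((g⁻¹ : GL ι F) : Matrix ι ι F) := ⟨_, rfl⟩
  rw [← hX] at hmin
  have hnm' : ¬ IsMon ((g⁻¹ : GL ι F) : Matrix ι ι F) := fun hm => hnm (by
    have := isMon_inv hm; rwa [inv_inv] at this)
  have colX : ∀ {k k' m}, k ≠ k' → X k m = 0 → X k' m = 0 → False := fun hk e e' =>
    hne (elem_of_two_zeros D hg hnm hk (hX ▸ e) (hX ▸ e'))
  have rowX : ∀ {k m m'}, m ≠ m' → X k m = 0 → X k m' = 0 → False := fun hm e e' =>
    hne (elem_of_row D (inv_mem hg) hnm' hm (hX ▸ e) (hX ▸ e'))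
  have colG : ∀ {k k' m}, k ≠ k' → (g : Matrix ι ι F) k m = 0 → (g : Matrix ι ι F) k' m = 0 → False := fun hk e e' =>
    hne (elem_of_two_zeros D (inv_mem hg) hnm' hk (by rw [inv_inv]; exact e) (by rw [inv_inv]; exact e'))
  have hja : X j a ≠ 0 := fun e => by
    rw [e, zero_mul] at hmin
    exact (mul_eq_zero.mp hmin.symm).elim (rowX hab e) (colX hjp e)
  have hpa : X p a ≠ 0 := fun e => by
    rw [e, mul_zero] at hmin
    exact (mul_eq_zero.mp hmin).elim hja (rowX hab e)
  have hgX : ∀ i m, ∑ q, (g : Matrix ι ι F) i q * X q m = if i = m then 1 else 0 := fun i m => by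
    rw [hX, ← mul_apply, ← Units.val_mul, mul_inv_cancel, Units.val_one, one_apply]
  have hXg : ∀ i m, ∑ q, X i q * (g : Matrix ι ι F) q m = if i = m then 1 else 0 := fun i m => by
    rw [hX, ← mul_apply, ← Units.val_mul, inv_mul_cancel, Units.val_one, one_apply]
  have rowkey : ∀ i, i ≠ a → i ≠ b → ∀ lam u w : F, lam ≠ 0 → lam ^ 4 * (u * w) = 1 →
      (u = 1 ∧ w ≠ 1 ∨ w = 1 ∧ u ≠ 1 ∨ u ≠ 1 ∧ w ≠ 1 ∧ u ≠ -1 ∧ w ≠ -1) →
      (w - 1) * ((g : Matrix ι ι F) i j * X j a) + (u - 1) * ((g : Matrix ι ι F) i p * X p a) = 0 → False := by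
    intro i hia hib lam u w hlam hprod hcase heq
    obtain ⟨d, hd⟩ : ∃ d : ι → F, d = fun q => lam * if q = j then w else if q = p then u else 1 := ⟨_, rfl⟩
    have huw : u * w ≠ 0 := fun e => by rw [e, mul_zero] at hprod; exact zero_ne_one hprod
    have hd0 : ∀ q, d q ≠ 0 := fun q => by
      rw [hd]
      refine mul_ne_zero hlam ?_
      split_ifs
      exacts [right_ne_zero_of_mul huw, left_ne_zero_of_mul huw, one_ne_zero]
    have hdp : ∏ q, d q = 1 := by
      rw [hd, Finset.prod_mul_distrib, Finset.prod_const, Finset.card_univ, h4,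
        ← Finset.prod_subset (Finset.subset_univ {j, p}) fun q _ hq => ?_, Finset.prod_pair hjp, if_pos rfl,
        if_neg hjp.symm, if_pos rfl, mul_comm w u, hprod]
      simp only [Finset.mem_insert, Finset.mem_singleton, not_or] at hq
      rw [if_neg hq.1, if_neg hq.2]
    obtain ⟨t, ht, htm, -⟩ := exists_tor D hd0 hdp
    obtain ⟨y, hy⟩ : ∃ y, y = g * t * g⁻¹ := ⟨_, rfl⟩
    have hyG : y ∈ G := hy ▸ mul_mem (mul_mem hg ht) (inv_mem hg)
    have hent : ∀ r m, (y : Matrix ι ι F) r m = lam * ((if r = m then 1 else 0) +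
        (w - 1) * ((g : Matrix ι ι F) r j * X j m) + (u - 1) * ((g : Matrix ι ι F) r p * X p m)) := fun r m => by
      rw [hy, Units.val_mul, Units.val_mul, htm, ← hX, mul_apply, Finset.sum_congr rfl fun q _ => show
        ((g : Matrix ι ι F) * diagonal d) r q * X q m = lam * ((g : Matrix ι ι F) r q * X q m +
          (if q = j then (w - 1) * ((g : Matrix ι ι F) r q * X q m) else 0) +
          if q = p then (u - 1) * ((g : Matrix ι ι F) r q * X q m) else 0) by
          rw [mul_diagonal, hd]; dsimp only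
          by_cases h1 : q = j
          · rw [if_pos h1, if_pos h1, if_neg (fun e => hjp (h1.symm.trans e))]; ring
          · rw [if_neg h1, if_neg h1]; split_ifs <;> ring]
      rw [← Finset.mul_sum, Finset.sum_add_distrib, Finset.sum_add_distrib, Finset.sum_ite_eq', Finset.sum_ite_eq',
        if_pos (Finset.mem_univ _), if_pos (Finset.mem_univ _), hgX]
    refine hne (elem_of_row D hyG (fun hm => ?_) hab (i := i) ?_ ?_)
    · obtain ⟨σ, hσ⟩ := mon_perm hm
      have hσ' : ∀ m r, r ≠ σ m → (y : Matrix ι ι F) r m = 0 := fun m r h => ((hσ m).2 r h).1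
      have two : ∀ (c : F) (q : ι), c ≠ 0 → (∀ r, r ≠ a → (y : Matrix ι ι F) r a = c * (g : Matrix ι ι F) r q) → False := by
        intro c q hc hcol
        obtain ⟨r, hr⟩ := exists_out (s := ({a, σ a} : Finset ι)) (by
          have := Finset.card_le_two (a := a) (b := σ a); omega)
        obtain ⟨r', hr'⟩ := exists_out (s := ({a, σ a, r} : Finset ι)) (by
          have := Finset.card_le_three (a := a) (b := σ a) (c := r); omega)
        simp only [Finset.mem_insert, Finset.mem_singleton, not_or] at hr hr'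
        exact colG (Ne.symm hr'.2.2) ((mul_eq_zero.mp ((hcol r hr.1).symm.trans (hσ' a r hr.2))).resolve_left hc)
          ((mul_eq_zero.mp ((hcol r' hr'.1).symm.trans (hσ' a r' hr'.2.1))).resolve_left hc)
      rcases hcase with ⟨hu, hw⟩ | ⟨hw, hu⟩ | ⟨hu, hw, hu', hw'⟩
      · refine two (lam * ((w - 1) * X j a)) j (mul_ne_zero hlam (mul_ne_zero (sub_ne_zero.mpr hw) hja)) fun r hr => ?_
        rw [hent, if_neg hr, hu]; ring
      · refine two (lam * ((u - 1) * X p a)) p (mul_ne_zero hlam (mul_ne_zero (sub_ne_zero.mpr hu) hpa)) fun r hr => ?_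
        rw [hent, if_neg hr, hw]; ring
      have hdne : ∀ q, d q = -lam → d q = lam := fun q e => by
        rw [hd] at e ⊢
        dsimp only at e ⊢
        split_ifs at e ⊢ with h1 h2
        · exact absurd (mul_left_cancel₀ hlam (by linear_combination e : lam * w = lam * -1)) hw'
        · exact absurd (mul_left_cancel₀ hlam (by linear_combination e : lam * u = lam * -1)) hu'
        · rw [mul_one]
      -- the two proportional columns
      have hv : ∀ r, X j b * (y : Matrix ι ι F) r a - X j a * (y : Matrix ι ι F) r b =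
          lam * ((if r = a then X j b else 0) - if r = b then X j a else 0) := fun r => by
        rw [hent, hent]
        by_cases h1 : r = a <;> by_cases h2 : r = b <;> simp only [h1, h2, hab, hab.symm, if_true, if_false] <;>
          first
          | exact absurd (h1.symm.trans h2) hab
          | linear_combination (-(lam * (u - 1) * (g : Matrix ι ι F) r p)) * hmin
          | linear_combination (-(lam * (u - 1) * (g : Matrix ι ι F) a p)) * hmin
          | linear_combination (-(lam * (u - 1) * (g : Matrix ι ι F) b p)) * hmin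
      have hjb : X j b ≠ 0 := fun e => by
        rw [e, zero_mul] at hmin
        exact (mul_eq_zero.mp hmin).elim hja (colX hjp e)
      have hda : ∀ r, r ≠ a → r ≠ b → (y : Matrix ι ι F) r a = 0 := fun r h1 h2 => by
        by_contra e
        have e1 := hv r
        rw [if_neg h1, if_neg h2, sub_zero, mul_zero, sub_eq_zero] at e1
        have e2 : (y : Matrix ι ι F) r b ≠ 0 := fun h => by
          rw [h, mul_zero] at e1; exact e ((mul_eq_zero.mp e1).resolve_left hjb)
        have ha : r = σ a := by_contra fun h => e (hσ' a r h)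
        exact hab (σ.injective (ha.symm.trans (by_contra fun h => e2 (hσ' b r h))))
      have hXy : ∀ q m, ∑ r, X q r * (y : Matrix ι ι F) r m = d q * X q m := fun q m => by
        have e : X * (y : Matrix ι ι F) = diagonal d * X := by
          rw [hX, ← Units.val_mul, hy, show g⁻¹ * (g * t * g⁻¹) = t * g⁻¹ by group, Units.val_mul, htm]
        rw [← mul_apply, e, diagonal_mul]
      have two' : ∀ q m, m = a ∨ m = b → X q a * (y : Matrix ι ι F) a m + X q b * (y : Matrix ι ι F) b m = d q * X q m := by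
        intro q m hm
        rw [← hXy, ← Finset.sum_subset (Finset.subset_univ {a, b}) fun r _ hr => ?_, Finset.sum_pair hab]
        simp only [Finset.mem_insert, Finset.mem_singleton, not_or] at hr
        rcases hm with rfl | rfl
        · rw [hda r hr.1 hr.2, mul_zero]
        · have e1 := hv r
          rw [if_neg hr.1, if_neg hr.2, hda r hr.1 hr.2, mul_zero, zero_sub, sub_zero, mul_zero, neg_eq_zero] at e1
          rw [(mul_eq_zero.mp e1).resolve_left hja, mul_zero]
      have eA := hv a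
      have eB := hv b
      rw [if_pos rfl, if_neg hab, sub_zero] at eA
      rw [if_neg hab.symm, if_pos rfl, zero_sub] at eB
      by_cases hσa : σ a = a
      · have h1 : (y : Matrix ι ι F) b a = 0 := hσ' a b (by rw [hσa]; exact hab.symm)
        have h2 : (y : Matrix ι ι F) a b = 0 := hσ' b a fun e => hab (σ.injective (hσa.trans e))
        rw [h2, mul_zero, sub_zero] at eA
        have h3 : (y : Matrix ι ι F) a a = lam := mul_left_cancel₀ hjb (by linear_combination eA)
        have h5 : d j = lam := by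
          have := two' j a (Or.inl rfl)
          rw [h1, h3, mul_zero, add_zero] at this
          exact mul_right_cancel₀ hja (by linear_combination -this)
        rw [hd] at h5
        simp only [if_true] at h5
        exact hw (mul_left_cancel₀ hlam (by rw [h5, mul_one]))
      · have h1 : (y : Matrix ι ι F) a a = 0 := hσ' a a fun e => hσa e.symm
        rw [h1, mul_zero, zero_sub] at eA
        have h2 : (y : Matrix ι ι F) a b ≠ 0 := fun e => by
          rw [e, mul_zero, neg_zero] at eA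
          exact mul_ne_zero hlam hjb eA.symm
        have h3 : (y : Matrix ι ι F) b b = 0 := hσ' b b fun e => hab (by
          by_contra
          exact hab (((by_contra fun h => h2 (hσ' b a h)) : a = σ b).trans e.symm))
        rw [h3, mul_zero, sub_zero] at eB
        have hq : ∀ q, (d q - lam) * X q a = 0 := fun q => by
          have t1 := two' q a (Or.inl rfl)
          have t2 := two' q b (Or.inr rfl)
          rw [h1, mul_zero, zero_add] at t1
          rw [h3, mul_zero, add_zero] at t2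
          have hc : (y : Matrix ι ι F) a b * (y : Matrix ι ι F) b a = lam * lam := by
            refine mul_left_cancel₀ (mul_ne_zero hja hjb) ?_
            linear_combination (-(X j b * (y : Matrix ι ι F) b a)) * eA + (-(lam * X j b)) * eB
          have e4 : (d q * d q - lam * lam) * X q a = 0 := by
            linear_combination (-d q) * t1 + (-(y : Matrix ι ι F) b a) * t2 + X q a * hc
          rcases mul_eq_zero.mp e4 with e5 | e5
          · rcases mul_self_eq_mul_self_iff.mp (sub_eq_zero.mp e5) with e6 | e6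
            · rw [e6, sub_self, zero_mul]
            · rw [hdne q e6, sub_self, zero_mul]
          · rw [e5, mul_zero]
        refine hw ?_
        have := (mul_eq_zero.mp (hq j)).resolve_right hja
        rw [hd] at this
        simp only [if_true] at this
        exact mul_left_cancel₀ hlam (by linear_combination this)
    · rw [hent, if_neg hia, zero_add, heq, mul_zero]
    · rw [hent, if_neg hib, zero_add]
      have : X j a * ((w - 1) * ((g : Matrix ι ι F) i j * X j b) + (u - 1) * ((g : Matrix ι ι F) i p * X p b)) = 0 := by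
        linear_combination X j b * heq + (u - 1) * (g : Matrix ι ι F) i p * hmin
      rw [(mul_eq_zero.mp this).resolve_left hja, mul_zero]
  obtain ⟨s, hs0, hs4⟩ := exists_pow_four D
  have hs2 : (s⁻¹) ^ 2 ≠ 1 ∧ (s⁻¹) ^ 2 ≠ -1 := by
    constructor <;> intro e <;> refine hs4 (inv_inj.mp ?_) <;> rw [inv_one, ← inv_pow] <;>
      first
      | linear_combination (((s⁻¹) ^ 2) + 1) * e
      | linear_combination (((s⁻¹) ^ 2) - 1) * e
  have hrow : ∀ i, i ≠ a → i ≠ b → (g : Matrix ι ι F) i j * X j a = (g : Matrix ι ι F) i p * X p a ∧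
      (g : Matrix ι ι F) i j * X j a + (g : Matrix ι ι F) i p * X p a ≠ 0 := by
    intro i hia hib
    obtain ⟨A, hA⟩ : ∃ A, A = (g : Matrix ι ι F) i j * X j a := ⟨_, rfl⟩
    obtain ⟨B, hB⟩ : ∃ B, B = (g : Matrix ι ι F) i p * X p a := ⟨_, rfl⟩
    have k := rowkey i hia hib
    rw [← hA, ← hB] at k ⊢
    have hz : s ^ 4 * (s⁻¹) ^ 4 = 1 := by rw [← mul_pow, mul_inv_cancel₀ hs0, one_pow]
    have hs41 : (s⁻¹) ^ 4 ≠ 1 := fun e => hs4 (by rw [e, mul_one] at hz; exact hz)
    by_cases hA0 : A = 0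
    · exact (k s 1 ((s⁻¹) ^ 4) hs0 (by rw [one_mul, hz]) (Or.inl ⟨rfl, hs41⟩)
        (by rw [hA0]; ring)).elim
    by_cases hB0 : B = 0
    · exact (k s ((s⁻¹) ^ 4) 1 hs0 (by rw [mul_one, hz]) (Or.inr (Or.inl ⟨rfl, hs41⟩))
        (by rw [hB0]; ring)).elim
    by_cases hAB : A + B = 0
    · exact (k s ((s⁻¹) ^ 2) ((s⁻¹) ^ 2) hs0 (by rw [← pow_add, hz]) (Or.inr (Or.inr ⟨hs2.1, hs2.1, hs2.2, hs2.2⟩))
        (by linear_combination ((s⁻¹) ^ 2 - 1) * hAB)).elim
    refine ⟨by_contra fun hne' => k 1 (A / B) (B / A) one_ne_zero (by field_simp) ?_ (by field_simp; ring), hAB⟩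
    refine Or.inr (Or.inr ⟨?_, ?_, ?_, ?_⟩)
    · rw [Ne, div_eq_one_iff_eq hB0]; exact hne'
    · rw [Ne, div_eq_one_iff_eq hA0]; exact Ne.symm hne'
    · rw [Ne, div_eq_iff hB0]; intro e; exact hAB (by linear_combination e)
    · rw [Ne, div_eq_iff hA0]; intro e; exact hAB (by linear_combination e)
  -- both rows cannot be degenerate
  have hsum : ∀ q, X j a * (∑ m, X p m * (g : Matrix ι ι F) m q) - X p a * (∑ m, X j m * (g : Matrix ι ι F) m q) =
      ∑ m, (X j a * X p m - X p a * X j m) * (g : Matrix ι ι F) m q := fun q => by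
    rw [Finset.mul_sum, Finset.mul_sum, ← Finset.sum_sub_distrib]
    exact Finset.sum_congr rfl fun m _ => by ring
  have e : X p a * (∑ m, (X j a * X p m - X p a * X j m) * (g : Matrix ι ι F) m p) =
      X j a * (∑ m, (X j a * X p m - X p a * X j m) * (g : Matrix ι ι F) m j) := by
    rw [Finset.mul_sum, Finset.mul_sum]
    refine Finset.sum_congr rfl fun m _ => ?_
    by_cases h1 : m = a
    · rw [h1]; ring
    by_cases h2 : m = b
    · rw [h2]; linear_combination (X p a * (g : Matrix ι ι F) b p - X j a * (g : Matrix ι ι F) b j) * hmin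
    linear_combination (-(X j a * X p m - X p a * X j m)) * (hrow m h1 h2).1
  rw [← hsum, ← hsum, hXg, hXg, hXg, hXg, if_pos rfl, if_pos rfl, if_neg hjp, if_neg hjp.symm] at e
  have h20 : (2 : F) = 0 := (mul_eq_zero.mp (show (2 : F) * (X j a * X p a) = 0 by linear_combination e)).resolve_right
    (mul_ne_zero hja hpa)
  obtain ⟨m, hm⟩ := exists_out (s := ({a, b} : Finset ι)) (by
    have := Finset.card_le_two (a := a) (b := b); omega)
  simp only [Finset.mem_insert, Finset.mem_singleton, not_or] at hm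
  obtain ⟨h1, h2⟩ := hrow m hm.1 hm.2
  exact h2 (by linear_combination h1 + ((g : Matrix ι ι F) m p * X p a) * h20)

/-- One zero in the inverse. -/
theorem elem_of_zero {g : GL ι F} (hg : g ∈ G) (hnm : ¬ IsMon (g : Matrix ι ι F)) {j l : ι}
    (h0 : ((g⁻¹ : GL ι F) : Matrix ι ι F) j l = 0) : Elem G := by
  classical
  by_contra hne
  have hcard := D.card
  obtain ⟨X, hX⟩ : ∃ X, X = ((g⁻¹ : GL ι F) : Matrix ι ι F) := ⟨_, rfl⟩
  rw [← hX] at h0
  have hcolz : ∀ p, p ≠ j → X p l ≠ 0 := fun p hp h =>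
    hne (elem_of_two_zeros D hg hnm hp (by rw [← hX]; exact h) (by rw [← hX]; exact h0))
  have hrowz : ∀ q, q ≠ l → X j q ≠ 0 := fun q hq h => by
    refine hne (elem_of_comap (elem_of_two_zeros (data_comap D) (h := trInv g⁻¹)
      (by rw [Subgroup.mem_comap, trInv_trInv]; exact inv_mem hg) (fun hm => hnm ?_) hq (k' := l) (l := j) ?_ ?_))
    · rw [trInv_coe, inv_inv] at hm
      have h1 : IsMon ((trInv g⁻¹ : GL ι F) : Matrix ι ι F) := by rwa [trInv_coe, inv_inv]
      have h2 := isMon_inv_transpose h1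
      rw [← trInv_coe, trInv_trInv] at h2
      have h3 := isMon_inv h2
      rwa [inv_inv] at h3
    · show ((trInv g⁻¹)⁻¹ : GL ι F).1 q j = 0
      rw [← map_inv, inv_inv, trInv_coe, transpose_apply, ← hX]
      exact h
    · show ((trInv g⁻¹)⁻¹ : GL ι F).1 l j = 0
      rw [← map_inv, inv_inv, trInv_coe, transpose_apply, ← hX]
      exact h0
  have hgX : ∀ a b, ∑ p, (g : Matrix ι ι F) a p * X p b = if a = b then 1 else 0 := fun a b => by
    rw [hX, ← mul_apply, ← Units.val_mul, mul_inv_cancel, Units.val_one, one_apply]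
  obtain ⟨k, hk⟩ := exists_out (s := ({l} : Finset ι)) (by simp; omega)
  obtain ⟨k', hk'⟩ := exists_out (s := ({l, k} : Finset ι)) (by
    have := Finset.card_le_two (a := l) (b := k); omega)
  simp only [Finset.mem_insert, Finset.mem_singleton, not_or] at hk hk'
  obtain ⟨q, hq⟩ := exists_out (s := ({l, k, k'} : Finset ι)) (by
    have := Finset.card_le_three (a := l) (b := k) (c := k'); omega)
  simp only [Finset.mem_insert, Finset.mem_singleton, not_or] at hq
  by_cases h4 : Fintype.card ι = 4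
  · obtain ⟨z, hz⟩ : ∃ z : ι → F, z = fun p => X j k' * X p k - X j k * X p k' := ⟨_, rfl⟩
    by_cases hgood : ∀ p, p ≠ j → z p ≠ 0
    · obtain ⟨a, ha⟩ : ∃ a : ι → F,
          a = fun p => if p = j then (∏ i ∈ Finset.univ.erase j, z i / X i l)⁻¹ else z p / X p l := ⟨_, rfl⟩
      have hpne : (∏ i ∈ Finset.univ.erase j, z i / X i l) ≠ 0 := Finset.prod_ne_zero_iff.mpr fun i hi =>
        div_ne_zero (hgood i (Finset.ne_of_mem_erase hi)) (hcolz i (Finset.ne_of_mem_erase hi))
      have ha0 : ∀ p, a p ≠ 0 := fun p => by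
        rw [ha]
        dsimp only
        split_ifs with h
        exacts [inv_ne_zero hpne, div_ne_zero (hgood p h) (hcolz p h)]
      have hap : ∏ p, a p = 1 := by
        rw [← Finset.mul_prod_erase _ _ (Finset.mem_univ j), show a j = (∏ i ∈ Finset.univ.erase j, z i / X i l)⁻¹ by
          simp [ha], Finset.prod_congr rfl fun p hp => show a p = z p / X p l by simp [ha, Finset.ne_of_mem_erase hp],
          inv_mul_cancel₀ hpne]
      obtain ⟨t, ht, htm, -⟩ := exists_tor D ha0 hap
      have haz : ∀ p, a p * X p l = z p := fun p => by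
        by_cases hp : p = j
        · rw [hp, h0, mul_zero, hz]; ring
        · simp [ha, hp, div_mul_cancel₀ _ (hcolz p hp)]
      have hcol : ∀ r, ((g * t * g⁻¹ : GL ι F) : Matrix ι ι F) r l =
          (if r = k then X j k' else 0) - if r = k' then X j k else 0 := fun r => by
        rw [Units.val_mul, Units.val_mul, htm, ← hX, mul_apply, Finset.sum_congr rfl fun p _ => show
          ((g : Matrix ι ι F) * diagonal a) r p * X p l = X j k' * ((g : Matrix ι ι F) r p * X p k) -
            X j k * ((g : Matrix ι ι F) r p * X p k') by rw [mul_diagonal, mul_assoc, haz, hz]; ring,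
          Finset.sum_sub_distrib, ← Finset.mul_sum, ← Finset.mul_sum, hgX, hgX, mul_ite, mul_ite, mul_one, mul_one,
          mul_zero, mul_zero]
      refine hne (elem_of_two_zeros D (h := (g * t * g⁻¹)⁻¹) (inv_mem (mul_mem (mul_mem hg ht) (inv_mem hg)))
        (fun hm => ?_) (k := q) (k' := l) hq.1 (l := l) ?_ ?_)
      · have hm' := isMon_inv hm
        rw [inv_inv] at hm'
        obtain ⟨m, hm⟩ := hm' l
        have e1 : ((g * t * g⁻¹ : GL ι F) : Matrix ι ι F) k l ≠ 0 := by
          rw [hcol, if_pos rfl, if_neg (Ne.symm hk'.2), sub_zero]; exact hrowz k' hk'.1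
        have e2 : ((g * t * g⁻¹ : GL ι F) : Matrix ι ι F) k' l ≠ 0 := by
          rw [hcol, if_neg hk'.2, if_pos rfl, zero_sub, neg_ne_zero]; exact hrowz k hk
        exact hk'.2 ((by_contra fun h => e2 (hm k' h) : k' = m).trans (by_contra fun h => e1 (hm k h) : k = m).symm)
      · rw [inv_inv, hcol, if_neg hq.2.1, if_neg hq.2.2, sub_zero]
      · rw [inv_inv, hcol, if_neg (Ne.symm hk), if_neg (Ne.symm hk'.1), sub_zero]
    · push Not at hgood
      obtain ⟨p, hp, hzp⟩ := hgood
      rw [hz] at hzp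
      exact hne (elem_of_minor D h4 hg hnm (Ne.symm hp) hk'.2 (by rw [← hX]; linear_combination hzp))
  -- a combination of the two rows vanishing off one place
  have comb : ∀ (s s' t : F) (p₀ : ι), (∀ p, p ≠ p₀ → p ≠ j → s * (g : Matrix ι ι F) k p + s' * (g : Matrix ι ι F) k' p = 0) →
      t = s * (g : Matrix ι ι F) k p₀ + s' * (g : Matrix ι ι F) k' p₀ → p₀ ≠ j → t = 0 ∧ s' = 0 := by
    intro s s' t p₀ hz ht hp₀
    have key : ∀ b, s * (if k = b then 1 else 0) + s' * (if k' = b then 1 else 0) =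
        t * X p₀ b + (s * (g : Matrix ι ι F) k j + s' * (g : Matrix ι ι F) k' j) * X j b := fun b => by
      rw [← hgX k b, ← hgX k' b, Finset.mul_sum, Finset.mul_sum, ← Finset.sum_add_distrib,
        ← Finset.sum_subset (Finset.subset_univ {p₀, j}) fun p _ hp => ?_, Finset.sum_pair hp₀, ht]
      · ring
      · simp only [Finset.mem_insert, Finset.mem_singleton, not_or] at hp
        linear_combination X p b * hz p hp.1 hp.2
    have e1 := key l
    rw [if_neg hk, if_neg hk'.1, mul_zero, mul_zero, add_zero, h0, mul_zero, add_zero] at e1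
    have ht0 : t = 0 := (mul_eq_zero.mp e1.symm).resolve_right (hcolz p₀ hp₀)
    have e2 := key q
    rw [if_neg (Ne.symm hq.2.1), if_neg (Ne.symm hq.2.2), mul_zero, mul_zero, add_zero, ht0, zero_mul, zero_add] at e2
    have e3 := key k'
    rw [if_neg (Ne.symm hk'.2), if_pos rfl, mul_zero, zero_add, mul_one, ht0, zero_mul, zero_add,
      (mul_eq_zero.mp e2.symm).resolve_right (hrowz q hq.1), zero_mul] at e3
    exact ⟨ht0, e3⟩
  obtain ⟨p₁, hp₁j, hp₁⟩ : ∃ p, p ≠ j ∧ (g : Matrix ι ι F) k p ≠ 0 := by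
    by_contra hcon
    push Not at hcon
    have key : ∀ b, (if k = b then (1 : F) else 0) = (g : Matrix ι ι F) k j * X j b := fun b => by
      rw [← hgX k b, Finset.sum_eq_single j (fun p _ hp => by rw [hcon p hp, zero_mul])
        (fun h => absurd (Finset.mem_univ j) h)]
    have e1 := key q
    rw [if_neg (Ne.symm hq.2.1)] at e1
    have e2 := key k
    rw [if_pos rfl, (mul_eq_zero.mp e1.symm).resolve_right (hrowz q hq.1), zero_mul] at e2
    exact one_ne_zero e2
  obtain ⟨p₂, hp₂j, hΔ⟩ : ∃ p, p ≠ j ∧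
      (g : Matrix ι ι F) k p₁ * (g : Matrix ι ι F) k' p - (g : Matrix ι ι F) k p * (g : Matrix ι ι F) k' p₁ ≠ 0 := by
    by_contra hcon
    push Not at hcon
    exact hp₁ (comb (-(g : Matrix ι ι F) k' p₁) ((g : Matrix ι ι F) k p₁) _ p₁
      (fun p _ hp => by linear_combination hcon p hp) rfl hp₁j).2
  have hp12 : p₁ ≠ p₂ := fun e => hΔ (by rw [← e]; ring)
  obtain ⟨T, hT⟩ : ∃ T : Finset ι, T = ((Finset.univ.erase j).erase p₁).erase p₂ := ⟨_, rfl⟩
  have hTmem : ∀ p, p ∈ T ↔ p ≠ p₂ ∧ p ≠ p₁ ∧ p ≠ j := fun p => by simp [hT]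
  obtain ⟨Δ, hΔdef⟩ : ∃ Δ, Δ = (g : Matrix ι ι F) k p₁ * (g : Matrix ι ι F) k' p₂ -
      (g : Matrix ι ι F) k p₂ * (g : Matrix ι ι F) k' p₁ := ⟨_, rfl⟩
  rw [← hΔdef] at hΔ
  obtain ⟨A, hA⟩ : ∃ A : ι → F, A = fun f => ((g : Matrix ι ι F) k p₂ * (g : Matrix ι ι F) k' f -
      (g : Matrix ι ι F) k' p₂ * (g : Matrix ι ι F) k f) / Δ := ⟨_, rfl⟩
  obtain ⟨B, hB⟩ : ∃ B : ι → F, B = fun f => ((g : Matrix ι ι F) k' p₁ * (g : Matrix ι ι F) k f -
      (g : Matrix ι ι F) k p₁ * (g : Matrix ι ι F) k' f) / Δ := ⟨_, rfl⟩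
  have hA0 : ∃ f ∈ T, A f ≠ 0 := by
    by_contra hcon
    push Not at hcon
    have := (comb (-(g : Matrix ι ι F) k' p₂) ((g : Matrix ι ι F) k p₂) (-Δ) p₁ (fun p hp hpj => ?_)
      (by rw [hΔdef]; ring) hp₁j).1
    · exact hΔ (neg_eq_zero.mp this)
    · by_cases hp2 : p = p₂
      · rw [hp2]; ring
      · have := hcon p ((hTmem p).mpr ⟨hp2, hp, hpj⟩)
        rw [hA] at this
        have := (div_eq_zero_iff.mp this).resolve_right hΔ
        linear_combination this
  have hB0 : ∃ f ∈ T, B f ≠ 0 := by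
    by_contra hcon
    push Not at hcon
    have := (comb (-(g : Matrix ι ι F) k' p₁) ((g : Matrix ι ι F) k p₁) Δ p₂ (fun p hp hpj => ?_)
      (by rw [hΔdef]; ring) hp₂j).1
    · exact hΔ this
    · by_cases hp1 : p = p₁
      · rw [hp1]; ring
      · have := hcon p ((hTmem p).mpr ⟨hp, hp1, hpj⟩)
        rw [hB] at this
        have := (div_eq_zero_iff.mp this).resolve_right hΔ
        linear_combination -this
  obtain ⟨f₀, hf₀⟩ := exists_out (s := ({j, p₁, p₂} : Finset ι)) (by
    have := Finset.card_le_three (a := j) (b := p₁) (c := p₂); omega)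
  obtain ⟨f₁, hf₁⟩ := exists_out (s := ({j, p₁, p₂, f₀} : Finset ι)) (by
    have := Finset.card_le_four (a := j) (b := p₁) (c := p₂) (d := f₀); omega)
  simp only [Finset.mem_insert, Finset.mem_singleton, not_or] at hf₀ hf₁
  have hf₀T : f₀ ∈ T := (hTmem _).mpr ⟨hf₀.2.2, hf₀.2.1, hf₀.1⟩
  have hf₁T : f₁ ∈ T := (hTmem _).mpr ⟨hf₁.2.2.1, hf₁.2.1, hf₁.1⟩
  obtain ⟨C, hC⟩ : ∃ C : ι → F, C = fun f => if f = f₀ then X f₁ l else if f = f₁ then -X f₀ l else 0 := ⟨_, rfl⟩
  have hC0 : ∃ f ∈ T, C f ≠ 0 := ⟨f₀, hf₀T, by rw [hC]; simpa using hcolz f₁ hf₁.1⟩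
  obtain ⟨w, hw, hwL⟩ := avoid T [A, B, C] (by have := D.field; simp; omega) (fun c hc => by
    simp only [List.mem_cons, List.not_mem_nil, or_false] at hc
    rcases hc with rfl | rfl | rfl
    exacts [hA0, hB0, hC0])
  obtain ⟨z, hz⟩ : ∃ z : ι → F, z = fun p => if p = j then 0 else if p = p₁ then ∑ f ∈ T, A f * w f else
      if p = p₂ then ∑ f ∈ T, B f * w f else w p := ⟨_, rfl⟩
  have hzj : z j = 0 := by simp [hz]
  have hz1 : z p₁ = ∑ f ∈ T, A f * w f := by simp [hz, hp₁j]
  have hz2 : z p₂ = ∑ f ∈ T, B f * w f := by simp [hz, hp₂j, hp12.symm]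
  have hzT : ∀ f ∈ T, z f = w f := fun f hf => by
    obtain ⟨a, b, c⟩ := (hTmem f).mp hf; simp [hz, a, b, c]
  have hz0 : ∀ p, p ≠ j → z p ≠ 0 := fun p hp => by
    by_cases h1 : p = p₁
    · rw [h1, hz1]; exact hwL A (by simp)
    by_cases h2 : p = p₂
    · rw [h2, hz2]; exact hwL B (by simp)
    rw [hzT p ((hTmem p).mpr ⟨h2, h1, hp⟩)]; exact hw p
  have hrow : ∀ r, r = k ∨ r = k' → ((g : Matrix ι ι F) *ᵥ z) r = 0 := by
    intro r hr
    have e : ((g : Matrix ι ι F) *ᵥ z) r = (g : Matrix ι ι F) r p₁ * z p₁ + (g : Matrix ι ι F) r p₂ * z p₂ +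
        ∑ f ∈ T, (g : Matrix ι ι F) r f * z f := by
      rw [mulVec, dotProduct, ← Finset.add_sum_erase _ _ (Finset.mem_univ j), hzj, mul_zero, zero_add,
        ← Finset.add_sum_erase _ _ (by simp [hp₁j] : p₁ ∈ Finset.univ.erase j),
        ← Finset.add_sum_erase _ _ (by simp [hp₂j, hp12.symm] : p₂ ∈ (Finset.univ.erase j).erase p₁), ← hT, add_assoc]
    rw [e, hz1, hz2, Finset.mul_sum, Finset.mul_sum, ← Finset.sum_add_distrib, ← Finset.sum_add_distrib]
    refine Finset.sum_eq_zero fun f hf => ?_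
    rw [hzT f hf, hA, hB]
    rcases hr with rfl | rfl
    · field_simp
      rw [hΔdef]; ring
    · field_simp
      rw [hΔdef]; ring
  obtain ⟨a, ha⟩ : ∃ a : ι → F, a = fun p => if p = j then (∏ i ∈ Finset.univ.erase j, z i / X i l)⁻¹ else z p / X p l :=
    ⟨_, rfl⟩
  have hpne : (∏ i ∈ Finset.univ.erase j, z i / X i l) ≠ 0 := Finset.prod_ne_zero_iff.mpr fun i hi =>
    div_ne_zero (hz0 i (Finset.ne_of_mem_erase hi)) (hcolz i (Finset.ne_of_mem_erase hi))
  have ha0 : ∀ p, a p ≠ 0 := fun p => by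
    rw [ha]
    dsimp only
    split_ifs with h
    exacts [inv_ne_zero hpne, div_ne_zero (hz0 p h) (hcolz p h)]
  have hap : ∏ p, a p = 1 := by
    rw [← Finset.mul_prod_erase _ _ (Finset.mem_univ j), show a j = (∏ i ∈ Finset.univ.erase j, z i / X i l)⁻¹ by
      simp [ha], Finset.prod_congr rfl fun p hp => show a p = z p / X p l by simp [ha, Finset.ne_of_mem_erase hp],
      inv_mul_cancel₀ hpne]
  obtain ⟨t, ht, htm, -⟩ := exists_tor D ha0 hap
  have haz : ∀ p, a p * X p l = z p := fun p => by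
    by_cases hp : p = j
    · rw [hp, h0, hzj, mul_zero]
    · simp [ha, hp, div_mul_cancel₀ _ (hcolz p hp)]
  have hcol : ((g * t * g⁻¹ : GL ι F) : Matrix ι ι F) *ᵥ Pi.single l 1 = (g : Matrix ι ι F) *ᵥ z := by
    rw [gl_mul_mulVec, gl_mul_mulVec, htm]
    congr 1
    funext p
    rw [mulVec_diagonal, mulVec_single_one, col_apply, ← hX, haz]
  have hnm' : ¬ IsMon ((g * t * g⁻¹ : GL ι F) : Matrix ι ι F) := by
    intro hm
    obtain ⟨m, hm⟩ := hm l
    have e1 : (g : Matrix ι ι F) *ᵥ z = ((g : Matrix ι ι F) *ᵥ z) m • Pi.single m 1 := by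
      funext i
      by_cases hi : i = m
      · rw [hi, Pi.smul_apply, Pi.single_eq_same, smul_eq_mul, mul_one]
      · have := hm i hi
        rw [← col_apply (A := ((g * t * g⁻¹ : GL ι F) : Matrix ι ι F)) l i, ← mulVec_single_one, hcol] at this
        rw [this, Pi.smul_apply, Pi.single_eq_of_ne hi, smul_zero]
    have e2 := congrArg (fun v => ((g⁻¹ : GL ι F) : Matrix ι ι F) *ᵥ v) e1
    simp only [gl_inv_mulVec_cancel] at e2
    simp only [mulVec_smul, mulVec_single_one, ← hX] at e2
    obtain ⟨c, hc⟩ : ∃ c, c = ((g : Matrix ι ι F) *ᵥ z) m := ⟨_, rfl⟩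
    rw [← hc] at e2
    have ej := congrFun e2 j
    rw [hzj, Pi.smul_apply, col_apply, smul_eq_mul] at ej
    have hc0 : c ≠ 0 := fun h => hz0 f₀ hf₀.1 (by rw [e2, h, zero_smul]; rfl)
    have hml : m = l := by_contra fun h => hrowz m h ((mul_eq_zero.mp ej.symm).resolve_left hc0)
    refine hwL C (by simp) ?_
    rw [← Finset.sum_subset (s₁ := {f₀, f₁}) (by intro f hf; simp at hf; rcases hf with rfl | rfl <;> assumption)
      (fun f _ hf => by simp at hf; simp [hC, hf.1, hf.2]), Finset.sum_pair (Ne.symm hf₁.2.2.2), hC, ← hzT f₀ hf₀T,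
      ← hzT f₁ hf₁T, e2, hml]
    simp only [Pi.smul_apply, col_apply, smul_eq_mul, if_true, hf₁.2.2.2, if_false]
    ring
  have hzero : ∀ r, r = k ∨ r = k' → ((g * t * g⁻¹ : GL ι F) : Matrix ι ι F) r l = 0 := fun r hr => by
    rw [← col_apply (A := ((g * t * g⁻¹ : GL ι F) : Matrix ι ι F)) l r, ← mulVec_single_one, hcol, hrow r hr]
  refine hne (elem_of_two_zeros D (h := (g * t * g⁻¹)⁻¹) (inv_mem (mul_mem (mul_mem hg ht) (inv_mem hg)))
    (fun hm => hnm' ?_) (Ne.symm hk'.2) (l := l) ?_ ?_)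
  · have := isMon_inv hm
    rwa [inv_inv] at this
  · rw [inv_inv]; exact hzero k (Or.inl rfl)
  · rw [inv_inv]; exact hzero k' (Or.inr rfl)

/-- A non-monomial element gives an elementary transvection. -/
theorem elem_of_nonmon {g : GL ι F} (hg : g ∈ G) (hnm : ¬ IsMon (g : Matrix ι ι F)) : Elem G := by
  classical
  by_contra hne4
  refine hne4 ?_
  have hcard := D.card
  by_cases hz : ∃ j l, ((g⁻¹ : GL ι F) : Matrix ι ι F) j l = 0
  · obtain ⟨j, l, h⟩ := hz; exact elem_of_zero D hg hnm h
  by_cases hz' : ∃ j l, (g : Matrix ι ι F) j l = 0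
  · obtain ⟨j, l, h⟩ := hz'
    exact elem_of_zero D (inv_mem hg) (fun hm => hnm (by have := isMon_inv hm; rwa [inv_inv] at this))
      (j := j) (l := l) (by rwa [inv_inv])
  push Not at hz hz'
  obtain ⟨i, j, hij⟩ := Fintype.one_lt_card_iff.mp (show 1 < Fintype.card ι by omega)
  obtain ⟨X, hX⟩ : ∃ X, X = ((g⁻¹ : GL ι F) : Matrix ι ι F) := ⟨_, rfl⟩
  rw [← hX] at hz
  have indep : ¬ ∀ k k', (g : Matrix ι ι F) k j * (g : Matrix ι ι F) k' i = (g : Matrix ι ι F) k i * (g : Matrix ι ι F) k' j := by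
    intro hall
    have h1 : (g : Matrix ι ι F) *ᵥ ((g : Matrix ι ι F) i i • Pi.single j 1) =
        (g : Matrix ι ι F) *ᵥ ((g : Matrix ι ι F) i j • Pi.single i 1) := by
      funext k
      rw [mulVec_smul, mulVec_smul, mulVec_single_one, mulVec_single_one, Pi.smul_apply, Pi.smul_apply, col_apply,
        col_apply, smul_eq_mul, smul_eq_mul]
      linear_combination hall k i
    have := congrFun (gl_mulVec_injective g h1) j
    simp [hij.symm] at this
    exact hz' _ _ this
  obtain ⟨k, l, hkl, hR⟩ : ∃ k l, k ≠ l ∧ (g : Matrix ι ι F) k j * X j l ≠ (g : Matrix ι ι F) k i * X i l := by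
    by_contra hcon
    push Not at hcon
    refine indep fun k k' => ?_
    obtain ⟨l, hl⟩ := exists_out (s := ({k, k'} : Finset ι)) (by have := Finset.card_le_two (a := k) (b := k'); omega)
    simp only [Finset.mem_insert, Finset.mem_singleton, not_or] at hl
    have e1 := hcon k l (Ne.symm hl.1)
    have e2 := hcon k' l (Ne.symm hl.2)
    have : ((g : Matrix ι ι F) k j * (g : Matrix ι ι F) k' i - (g : Matrix ι ι F) k i * (g : Matrix ι ι F) k' j) *
        X j l = 0 := by linear_combination (g : Matrix ι ι F) k' i * e1 - (g : Matrix ι ι F) k i * e2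
    exact sub_eq_zero.mp ((mul_eq_zero.mp this).resolve_right (hz _ _))
  obtain ⟨a, ha⟩ : ∃ a, a = (g : Matrix ι ι F) k j * X j l / ((g : Matrix ι ι F) k i * X i l) := ⟨_, rfl⟩
  have ha0 : a ≠ 0 := ha ▸ div_ne_zero (mul_ne_zero (hz' _ _) (hz _ _)) (mul_ne_zero (hz' _ _) (hz _ _))
  have ha1 : a ≠ 1 := fun e => hR ((div_eq_one_iff_eq (mul_ne_zero (hz' _ _) (hz _ _))).mp (ha ▸ e))
  obtain ⟨t, ht, htm, -⟩ := exists_dd D hij ha0
  have hent : ∀ p m, p ≠ m → ((g * t * g⁻¹ : GL ι F) : Matrix ι ι F) p m =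
      (a⁻¹ - 1) * ((g : Matrix ι ι F) p j * X j m - a * ((g : Matrix ι ι F) p i * X i m)) := fun p m hpm => by
    rw [Units.val_mul, Units.val_mul, htm, conj_apply, if_neg hpm, zero_add,
      ← Finset.sum_subset (Finset.subset_univ {i, j}) fun q _ hq => ?_, Finset.sum_pair hij, dd_left, dd_right hij, ← hX]
    · field_simp
      ring
    · simp only [Finset.mem_insert, Finset.mem_singleton, not_or] at hq
      rw [dd_other hq.1 hq.2, sub_self, zero_mul]
  refine elem_of_zero D (inv_mem (mul_mem (mul_mem hg ht) (inv_mem hg))) (fun hm => ?_) (j := k) (l := l) ?_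
  · have hm' := isMon_inv hm
    rw [inv_inv] at hm'
    obtain ⟨σ, hσ⟩ := mon_perm hm'
    have eqn : ∀ p m, m ≠ p → m ≠ σ.symm p →
        (g : Matrix ι ι F) p j * X j m = a * ((g : Matrix ι ι F) p i * X i m) := by
      intro p m h1 h2
      have := ((hσ m).2 p fun e => h2 (by rw [e, Equiv.symm_apply_apply])).1
      rw [hent p m (Ne.symm h1)] at this
      exact sub_eq_zero.mp ((mul_eq_zero.mp this).resolve_left (sub_ne_zero.mpr (inv_ne_one.mpr ha1)))
    by_cases h4 : Fintype.card ι = 4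
    · obtain ⟨p, -⟩ := exists_out (s := ({i} : Finset ι)) (by simp; omega)
      obtain ⟨p', hp', hc⟩ : ∃ p', p' ≠ p ∧ (p' = σ.symm p ∨ σ.symm p = p) := by
        by_cases e : σ.symm p = p
        · obtain ⟨p', hp'⟩ := exists_out (s := ({p} : Finset ι)) (by simp; omega)
          exact ⟨p', by simpa using hp', Or.inr e⟩
        · exact ⟨_, e, Or.inl rfl⟩
      obtain ⟨m, hm⟩ := exists_out (s := ({p, p', σ.symm p'} : Finset ι)) (by
        have := Finset.card_le_three (a := p) (b := p') (c := σ.symm p'); omega)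
      simp only [Finset.mem_insert, Finset.mem_singleton, not_or] at hm
      have e1 := eqn p m hm.1 (by
        rcases hc with e | e
        · exact e ▸ hm.2.1
        · rw [e]; exact hm.1)
      have e2 := eqn p' m hm.2.1 hm.2.2
      have : ((g : Matrix ι ι F) p j * (g : Matrix ι ι F) p' i - (g : Matrix ι ι F) p i * (g : Matrix ι ι F) p' j) *
          X j m = 0 := by linear_combination (g : Matrix ι ι F) p' i * e1 - (g : Matrix ι ι F) p i * e2
      have hz0 := (mul_eq_zero.mp this).resolve_right (hz _ _)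
      refine hne4 (elem_of_minor D h4 (g := g⁻¹) (inv_mem hg) (fun hm => hnm ?_) (Ne.symm hp') hij (a := i) ?_)
      · have := isMon_inv hm
        rwa [inv_inv] at this
      · rw [inv_inv]; linear_combination -hz0
    refine indep fun p p' => ?_
    obtain ⟨m, hm⟩ := exists_out (s := ({p, p', σ.symm p, σ.symm p'} : Finset ι)) (by
      have := Finset.card_le_four (a := p) (b := p') (c := σ.symm p) (d := σ.symm p'); omega)
    simp only [Finset.mem_insert, Finset.mem_singleton, not_or] at hm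
    have e1 := eqn p m hm.1 hm.2.2.1
    have e2 := eqn p' m hm.2.1 hm.2.2.2
    have : ((g : Matrix ι ι F) p j * (g : Matrix ι ι F) p' i - (g : Matrix ι ι F) p i * (g : Matrix ι ι F) p' j) *
        X j m = 0 := by linear_combination (g : Matrix ι ι F) p' i * e1 - (g : Matrix ι ι F) p i * e2
    exact sub_eq_zero.mp ((mul_eq_zero.mp this).resolve_right (hz _ _))
  · rw [inv_inv, hent k l hkl, ha, div_mul_cancel₀ _ (mul_ne_zero (hz' _ _) (hz _ _)), sub_self, mul_zero]

/-- The monomial group is a maximal subgroup. -/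
theorem sl_le {g : GL ι F} (hg : g ∈ G) (hnm : ¬ IsMon (g : Matrix ι ι F)) : specialLinear ι F ≤ G := by
  classical
  have hcard := D.card
  haveI : Nontrivial ι := Fintype.one_lt_card_iff_nontrivial.mp (by omega)
  obtain ⟨i, j, hij, c, hc, hmem⟩ := elem_of_nonmon D hg hnm
  refine (specialLinear_le_iff G).mpr fun u v huv d => ?_
  have move : ∀ (σ : Equiv.Perm ι) (u v : ι) (huv : u ≠ v) (c : F), c ≠ 0 → transGL huv c ∈ G →
      ∃ c', c' ≠ 0 ∧ transGL (σ.injective.ne huv) c' ∈ G := by
    intro σ u v huv c hc hmem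
    obtain ⟨m, hm, a, ha0, -, hconj⟩ := exists_mon D σ
    refine ⟨a u * c * (a v)⁻¹, mul_ne_zero (mul_ne_zero (ha0 u) hc) (inv_ne_zero (ha0 v)), ?_⟩
    convert mul_mem (mul_mem hm hmem) (inv_mem hm)
    refine Units.ext (Matrix.ext fun p q => ?_)
    obtain ⟨p, rfl⟩ := σ.surjective p
    obtain ⟨q, rfl⟩ := σ.surjective q
    rw [Units.val_mul, Units.val_mul, hconj, transGL_coe, transGL_coe]
    simp only [transvection, Matrix.add_apply, Matrix.one_apply, Matrix.single_apply, σ.injective.eq_iff]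
    split_ifs with h1 h2 <;> first
      | exact absurd (h2.1.trans (h1.trans h2.2.symm)) huv
      | simp_all [mul_assoc]
  by_cases hd : d = 0
  · convert one_mem G
    exact gl_ext_mulVec fun w => by rw [transGL_mulVec, hd, zero_mul, Pi.single_zero, add_zero, Units.val_one, one_mulVec]
  obtain ⟨σ, hσi, hσj⟩ : ∃ σ : Equiv.Perm ι, σ i = u ∧ σ j = v := by
    refine ⟨(Equiv.swap i u).trans (Equiv.swap (Equiv.swap i u j) v), ?_, ?_⟩
    · rw [Equiv.trans_apply, Equiv.swap_apply_left, Equiv.swap_apply_of_ne_of_ne ?_ huv]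
      intro e
      exact hij ((Equiv.swap i u).injective ((Equiv.swap_apply_left i u).trans e))
    · rw [Equiv.trans_apply, Equiv.swap_apply_left]
  obtain ⟨c', hc', hmem'⟩ := move σ i j hij c hc hmem
  subst hσi hσj
  obtain ⟨w, hw⟩ := exists_out (s := ({σ i, σ j} : Finset ι)) (by
    have := Finset.card_le_two (a := σ i) (b := σ j); omega)
  simp only [Finset.mem_insert, Finset.mem_singleton, not_or] at hw
  obtain ⟨t, ht, htm, htm'⟩ := exists_dd D (Ne.symm hw.1) (div_ne_zero hd hc')
  convert mul_mem (mul_mem ht hmem') (inv_mem ht)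
  refine gl_ext_mulVec fun x => ?_
  rw [gl_mul_mulVec, gl_mul_mulVec, htm, htm', transGL_mulVec, transGL_mulVec]
  funext p
  simp only [mulVec_diagonal, Pi.add_apply]
  by_cases hp : p = σ i
  · subst hp
    rw [Pi.single_eq_same, Pi.single_eq_same, dd_left, dd_other huv.symm (Ne.symm hw.2)]
    field_simp
  · rw [Pi.single_eq_of_ne hp, Pi.single_eq_of_ne hp, add_zero, add_zero,
      mul_inv_cancel_left₀ (dd_ne (div_ne_zero hd hc') p)]

end Cfsg.Agent.Classical.LMonFour
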